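import Cfsg.Agent.Lib.GeomClasses.OrthSubspaceTools
import Cfsg.Agent.Lib.GeomClasses.OrthSubspace

/-!
Orthogonal similitudes of determinant one inside the special linear group of degree four, odd
characteristic: the pencil of an element `m`, that is the self-adjoint `L` with
`B (m⁻¹ x) (m⁻¹ y) = B x (L y)`, and elementary facts on the four-dimensional orthogonal space.
-/

set_option autoImplicit false
set_option linter.unusedSectionVars false

namespace CfsgLib.GeomClasses.OrthFour

open Matrix QuadraticMap CfsgLib.Orth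

variable {F : Type*} [Field F] {q : QuadraticForm F (Fin 4 → F)}

/-- `L` is self-adjoint for the polar form. -/
def IsSA (q : QuadraticForm F (Fin 4 → F)) (L : Matrix (Fin 4) (Fin 4) F) : Prop :=
  ∀ x y, polar q (L *ᵥ x) y = polar q x (L *ᵥ y)

/-- `L` gives the transform of the polar form by `m` in terms of the polar form. -/
def IsPen (q : QuadraticForm F (Fin 4 → F)) (m L : GL (Fin 4) F) : Prop :=
  ∀ x y, polar q (((m⁻¹ : GL (Fin 4) F) : Matrix (Fin 4) (Fin 4) F) *ᵥ x)
    (((m⁻¹ : GL (Fin 4) F) : Matrix (Fin 4) (Fin 4) F) *ᵥ y) =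
      polar q x ((L : Matrix (Fin 4) (Fin 4) F) *ᵥ y)

/-- A proper overgroup of the similitudes of determinant one without transvection. -/
structure Setting (q : QuadraticForm F (Fin 4 → F)) (M : Subgroup (GL (Fin 4) F)) : Prop where
  nd : q.polarBilin.Nondegenerate
  two : (2 : F) ≠ 0
  sim : Cfsg.Geo.quadSimilarityGroup (q : (Fin 4 → F) → F) ⊓ Cfsg.Geo.specialLinear (Fin 4) F ≤ M
  le : M ≤ Cfsg.Geo.specialLinear (Fin 4) F
  proper : ¬ Cfsg.Geo.specialLinear (Fin 4) F ≤ M

variable (hq : q.polarBilin.Nondegenerate)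
include hq

theorem eq_of_polar {y z : Fin 4 → F} (h : ∀ x, polar q x y = polar q x z) : y = z :=
  sub_eq_zero.1 <| eq_zero_of_polar hq fun x => by
    rw [polar_comm, polar_sub_right, h, sub_self]

theorem mat_eq_of_polar {L L' : Matrix (Fin 4) (Fin 4) F}
    (h : ∀ x y, polar q x (L *ᵥ y) = polar q x (L' *ᵥ y)) : L = L' :=
  Matrix.ext_of_mulVec_single fun i => eq_of_polar hq fun x => h x _

theorem IsPen.isSA {m L : GL (Fin 4) F} (h : IsPen q m L) : IsSA q (L : Matrix (Fin 4) (Fin 4) F) :=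
  fun x y => by rw [polar_comm, ← h, polar_comm, h]

theorem exists_pen (m : GL (Fin 4) F) : ∃ L, IsPen q m L := by
  have hbil : ∀ p : Fin 4 → F, ∃ φ : Fin 4 → F, ∀ x, φ ⬝ᵥ x = polar q x p := fun p =>
    ⟨fun i => polar q (Pi.single i 1) p, fun x => by
      conv_rhs => rw [pi_eq_sum_univ' x]
      rw [dotProduct, ← polarBilin_apply_apply, map_sum, LinearMap.sum_apply]
      refine Finset.sum_congr rfl fun i _ => ?_
      rw [map_smul, LinearMap.smul_apply, polarBilin_apply_apply, smul_eq_mul, mul_comm]⟩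
  let Φ : (Fin 4 → F) →ₗ[F] (Fin 4 → F) :=
    { toFun := fun p i => polar q (Pi.single i 1) p
      map_add' := fun a b => funext fun i => polar_add_right q _ a b
      map_smul' := fun c a => funext fun i => by
        rw [polar_smul_right]; rfl }
  have hΦ : ∀ p x, Φ p ⬝ᵥ x = polar q x p := fun p x => by
    obtain ⟨φ, hφ⟩ := hbil p
    have : Φ p = φ := funext fun i => by
      show polar q (Pi.single i 1) p = φ i
      rw [← hφ, dotProduct_single, mul_one]
    rw [this, hφ]
  have hinj : Function.Injective Φ := fun a b hab => eq_of_polar hq fun x => by rw [← hΦ, ← hΦ, hab]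
  let e := LinearEquiv.ofInjectiveEndo Φ hinj
  let mi : Matrix (Fin 4) (Fin 4) F := ((m⁻¹ : GL (Fin 4) F) : Matrix (Fin 4) (Fin 4) F)
  let L₀ : Matrix (Fin 4) (Fin 4) F :=
    LinearMap.toMatrix' (e.symm.toLinearMap ∘ₗ Matrix.vecMulLinear mi ∘ₗ Φ ∘ₗ Matrix.toLin' mi)
  have hL : ∀ x y, polar q (mi *ᵥ x) (mi *ᵥ y) = polar q x (L₀ *ᵥ y) := fun x y => by
    rw [← hΦ, LinearMap.toMatrix'_mulVec, LinearMap.comp_apply, LinearMap.comp_apply, LinearMap.comp_apply,
      LinearEquiv.coe_coe, ← hΦ]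
    have : Φ (e.symm (Matrix.vecMulLinear mi (Φ (Matrix.toLin' mi y)))) =
        Matrix.vecMulLinear mi (Φ (Matrix.toLin' mi y)) := e.apply_symm_apply _
    rw [this, Matrix.vecMulLinear_apply, ← dotProduct_mulVec, Matrix.toLin'_apply]
  have hinjL : Function.Injective (L₀.mulVec) := by
    intro a b hab
    apply gl_mulVec_injective m⁻¹
    refine eq_of_polar hq fun x => ?_
    have h1 := hL ((m : Matrix (Fin 4) (Fin 4) F) *ᵥ x) a
    have h2 := hL ((m : Matrix (Fin 4) (Fin 4) F) *ᵥ x) b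
    rw [gl_inv_mulVec_mulVec] at h1 h2
    show polar q x (mi *ᵥ a) = polar q x (mi *ᵥ b)
    rw [h1, h2, show L₀ *ᵥ a = L₀ *ᵥ b from hab]
  obtain ⟨L, hLL⟩ := Matrix.mulVec_injective_iff_isUnit.1 hinjL
  exact ⟨L, fun x y => by rw [hLL]; exact hL x y⟩

theorem IsPen.unique {m L L' : GL (Fin 4) F} (h : IsPen q m L) (h' : IsPen q m L') : L = L' :=
  Units.ext (mat_eq_of_polar hq fun x y => by rw [← h, ← h'])

/-- The pencil of `h * m` for an isometry `h`. -/
theorem IsPen.isometry_mul {m L : GL (Fin 4) F} (h : IsPen q m L) (e : O q) :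
    IsPen q ((e : GL (Fin 4) F) * m) ((e : GL (Fin 4) F) * L * (e : GL (Fin 4) F)⁻¹) := by
  intro x y
  rw [_root_.mul_inv_rev, gl_mul_mulVec, gl_mul_mulVec, h, gl_mul_mulVec, gl_mul_mulVec]
  show polar q (app e⁻¹ x) _ = polar q x (app e _)
  conv_lhs => rw [← polar_app e, app_app_inv]

/-- The pencil of `m⁻¹ * k`. -/
theorem IsPen.div {m k Lm Lk : GL (Fin 4) F} (hm : IsPen q m Lm) (hk : IsPen q k Lk) :
    IsPen q (m⁻¹ * k) (m⁻¹ * Lm⁻¹ * Lk * m) := by
  intro x y
  rw [_root_.mul_inv_rev, inv_inv, gl_mul_mulVec, gl_mul_mulVec, hk]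
  conv_rhs => rw [← gl_inv_mulVec_mulVec m x]
  rw [gl_mul_mulVec, gl_mul_mulVec, gl_mul_mulVec, hm, gl_mulVec_inv_mulVec]

theorem IsPen.one : IsPen q 1 1 := fun x y => by simp

variable (h2 : (2 : F) ≠ 0)
include h2

/-- A scalar pencil means a similitude. -/
theorem IsPen.similitude {m L : GL (Fin 4) F} (h : IsPen q m L) {c : F}
    (hc : (L : Matrix (Fin 4) (Fin 4) F) = c • 1) :
    m ∈ Cfsg.Geo.quadSimilarityGroup (q : (Fin 4 → F) → F) := by
  have hc0 : c ≠ 0 := by
    intro h0
    rw [h0, zero_smul] at hc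
    exact L.ne_zero hc
  refine ⟨Units.mk0 c⁻¹ (inv_ne_zero hc0), fun x => ?_⟩
  have h1 := h ((m : Matrix (Fin 4) (Fin 4) F) *ᵥ x) ((m : Matrix (Fin 4) (Fin 4) F) *ᵥ x)
  rw [gl_inv_mulVec_mulVec, hc, smul_mulVec, one_mulVec, polar_smul_right, smul_eq_mul, polar_self',
    polar_self'] at h1
  rw [Units.val_mk0, eq_inv_mul_iff_mul_eq₀ hc0]
  exact mul_left_cancel₀ h2 (by linear_combination -h1)

theorem detHom_eich {u a : Fin 4 → F} (hu : q u = 0) (hua : polar q u a = 0) :
    detHom q (eich q u a) = 1 := by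
  have h : polar q u ((2 : F)⁻¹ • a) = 0 := by rw [polar_smul_right, hua, smul_zero]
  have e : (2 : F)⁻¹ • a + (2 : F)⁻¹ • a = a := by
    rw [← add_smul, ← two_mul, mul_inv_cancel₀ h2, one_smul]
  conv_lhs => rw [← e, ← eich_add hu h h, map_mul]
  rcases det_eq_one_or hq (eich q u ((2 : F)⁻¹ • a)) with h1 | h1 <;> simp [h1]

omit hq in
theorem detHom_refl_pair {c d : Fin 4 → F} (hc : q c ≠ 0) (hd : q d ≠ 0) :
    detHom q (refl q c * refl q d) = 1 := by
  rw [map_mul, detHom_refl hc, detHom_refl hd, neg_one_mul, neg_neg]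

omit hq h2 in
theorem Setting.isometry_mem {M : Subgroup (GL (Fin 4) F)} (S : Setting q M) {e : O q}
    (he : detHom q e = 1) : (e : GL (Fin 4) F) ∈ M :=
  S.sim ⟨⟨1, fun v => by rw [Units.val_one, one_mul]; exact Q_app _ v⟩, MonoidHom.mem_ker.2 he⟩

/-- A pencil that is not scalar comes from outside the similitudes. -/
theorem IsPen.scalar_of_mem {m L : GL (Fin 4) F} (h : IsPen q m L)
    (hm : m ∈ Cfsg.Geo.quadSimilarityGroup (q : (Fin 4 → F) → F)) :
    ∃ c : F, (L : Matrix (Fin 4) (Fin 4) F) = c • 1 := by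
  obtain ⟨c, hc⟩ := inv_mem hm
  refine ⟨(c : F), mat_eq_of_polar hq fun x y => ?_⟩
  rw [← h, smul_mulVec, one_mulVec, polar_smul_right, smul_eq_mul]
  simp only [QuadraticMap.polar, ← mulVec_add, hc]
  ring

/-- Orthogonal anisotropic vectors span. -/
theorem expand {e : Fin 4 → Fin 4 → F} (he : ∀ i j, i ≠ j → polar q (e i) (e j) = 0) (ha : ∀ i, q (e i) ≠ 0)
    (x : Fin 4 → F) : x = ∑ i, (polar q x (e i) / (2 * q (e i))) • e i := by
  have key : ∀ (c : Fin 4 → F) j, polar q (∑ i, c i • e i) (e j) = c j * (2 * q (e j)) := by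
    intro c j
    rw [← polarBilin_apply_apply, map_sum, LinearMap.sum_apply, Finset.sum_eq_single j]
    · rw [map_smul, LinearMap.smul_apply, polarBilin_apply_apply, polar_self', smul_eq_mul]
    · intro i _ hi
      rw [map_smul, LinearMap.smul_apply, polarBilin_apply_apply, he i j hi, smul_zero]
    · simp
  have hli : LinearIndependent F e := Fintype.linearIndependent_iff.2 fun c hc j => by
    have := key c j
    rw [hc, polar_zero_left, eq_comm] at this
    exact (mul_eq_zero.1 this).resolve_right (mul_ne_zero h2 (ha j))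
  have htop := hli.span_eq_top_of_card_eq_finrank (by simp)
  obtain ⟨c, hc⟩ := (Submodule.mem_span_range_iff_exists_fun F).1
    (htop ▸ Submodule.mem_top : x ∈ Submodule.span F (Set.range e))
  conv_lhs => rw [← hc]
  refine Finset.sum_congr rfl fun i _ => ?_
  rw [show polar q x (e i) = c i * (2 * q (e i)) by rw [← hc, key], mul_div_assoc,
    div_self (mul_ne_zero h2 (ha i)), mul_one]

omit h2 in
/-- The orthogonal of a hyperbolic plane. -/
theorem perp_plane {u v : Fin 4 → F} (hu : q u = 0) (hv : q v = 0) (huv : polar q u v = 1) :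
    Module.finrank F (OrthTools.orth q (Submodule.span F ({u, v} : Set (Fin 4 → F)))) = 2 ∧
    ∀ x ∈ OrthTools.orth q (Submodule.span F ({u, v} : Set (Fin 4 → F))), x ≠ 0 →
      ∃ y ∈ OrthTools.orth q (Submodule.span F ({u, v} : Set (Fin 4 → F))), polar q x y ≠ 0 := by
  have huu : polar q u u = 0 := by rw [polar_self', hu, mul_zero]
  have hvv : polar q v v = 0 := by rw [polar_self', hv, mul_zero]
  have hvu : polar q v u = 1 := by rw [polar_comm, huv]
  have hli : LinearIndependent F ![u, v] := LinearIndependent.pair_iff.2 fun s t hst => by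
    have h1 := congrArg (fun z => polar q z v) hst
    have h3 := congrArg (fun z => polar q z u) hst
    simp only [polar_add_left, polar_smul_left, huv, hvv, huu, hvu, polar_zero_left, smul_eq_mul,
      mul_one, mul_zero, add_zero, zero_add] at h1 h3
    exact ⟨h1, h3⟩
  refine ⟨?_, OrthTools.orth_nondegenerate hq fun x hx hx0 => ?_⟩
  · rw [OrthTools.finrank_orth hq,
      show ({u, v} : Set (Fin 4 → F)) = Set.range ![u, v] from (Matrix.range_cons_cons_empty u v ![]).symm,
      finrank_span_eq_card hli, Fintype.card_fin, Fintype.card_fin]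
  · obtain ⟨r, s, rfl⟩ := Submodule.mem_span_pair.1 hx
    rcases eq_or_ne r 0 with rfl | hr
    · refine ⟨u, Submodule.subset_span (by simp), ?_⟩
      have hs : s ≠ 0 := by rintro rfl; simp at hx0
      simp [polar_smul_left, hvu, hs]
    · exact ⟨v, Submodule.subset_span (by simp), by
        simp [polar_add_left, polar_smul_left, huv, hvv, hr]⟩

omit h2 in
/-- An anisotropic vector in a non-degenerate subspace. -/
theorem exists_aniso_mem {X : Submodule F (Fin 4 → F)} (hX : ∀ x ∈ X, x ≠ 0 → ∃ y ∈ X, polar q x y ≠ 0)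
    (hd : X ≠ ⊥) : ∃ c ∈ X, q c ≠ 0 := by
  by_contra! hall
  obtain ⟨x, hx, hx0⟩ := Submodule.exists_mem_ne_zero_of_ne_bot hd
  obtain ⟨y, hy, hxy⟩ := hX x hx hx0
  exact hxy (OrthClasses.polar_of_singular hall hx hy)

variable [Fintype F]

omit h2 in
theorem exists_partner_top {u : Fin 4 → F} (hu0 : u ≠ 0) (hu : q u = 0) :
    ∃ v, q v = 0 ∧ polar q u v = 1 := by
  obtain ⟨v, -, hv, huv⟩ := OrthTools.exists_partner (X := (⊤ : Submodule F (Fin 4 → F))) (fun x _ hx => by
    obtain ⟨a, ha⟩ := exists_polar_eq_one hq hx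
    exact ⟨a, Submodule.mem_top, by rw [ha]; exact one_ne_zero⟩) Submodule.mem_top hu0 hu
  exact ⟨v, hv, huv⟩

omit h2 in
theorem exists_singular_ne_zero : ∃ u : Fin 4 → F, u ≠ 0 ∧ q u = 0 := by
  obtain ⟨x, -, hx⟩ := OrthTools.exists_singular hq (⊤ : Submodule F (Fin 4 → F))
    (by rw [finrank_top, Module.finrank_fintype_fun_eq_card, Fintype.card_fin]; norm_num)
  exact ⟨x, hx⟩

omit h2 in
/-- Two singular vectors pairing non-trivially are exchanged up to a scalar by a product of two reflections. -/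
theorem exists_map_of_pairing {u v : Fin 4 → F} (hu : q u = 0) (hv : q v = 0) (h : polar q u v ≠ 0) :
    ∃ e : O q, detHom q e = 1 ∧ ∃ c : F, c ≠ 0 ∧ app e u = c • v := by
  set v' := (polar q u v)⁻¹ • v with hv'
  have hv'q : q v' = 0 := by rw [hv', QuadraticMap.map_smul, hv, smul_zero]
  have huv' : polar q u v' = 1 := by rw [hv', polar_smul_right, smul_eq_mul, inv_mul_cancel₀ h]
  have hd : q (u - v') = -1 := by
    rw [sub_eq_add_neg, QuadraticMap.map_add ⇑q, QuadraticMap.map_neg, polar_neg_right, hu, hv'q, huv']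
    ring
  obtain ⟨hY, hYn⟩ := perp_plane hq hu hv'q huv'
  obtain ⟨c, hc, hqc⟩ := exists_aniso_mem hq hYn (fun h0 => by rw [h0, finrank_bot] at hY; omega)
  rw [OrthEich.mem_orth_pair] at hc
  refine ⟨refl q (u - v') * refl q c, ?_, (polar q u v)⁻¹, inv_ne_zero h, ?_⟩
  · rw [map_mul, detHom_refl (by rw [hd]; exact neg_ne_zero.2 one_ne_zero), detHom_refl hqc, neg_one_mul, neg_neg]
  · rw [app_mul, app_refl_of_ortho hc.1, app_refl, hd, polar_sub_right, polar_self', hu, huv']
    rw [hv']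
    match_scalars <;> norm_num

omit h2 in
/-- The determinant-one isometries are transitive on singular points. -/
theorem exists_map_singular {u v : Fin 4 → F} (hu0 : u ≠ 0) (hu : q u = 0) (hv0 : v ≠ 0) (hv : q v = 0) :
    ∃ e : O q, detHom q e = 1 ∧ ∃ c : F, c ≠ 0 ∧ app e u = c • v := by
  by_cases h : polar q u v = 0
  swap
  · exact exists_map_of_pairing hq hu hv h
  obtain ⟨z, hz, hzu, hzv⟩ : ∃ z, q z = 0 ∧ polar q u z ≠ 0 ∧ polar q z v ≠ 0 := by
    obtain ⟨t, ht, hut⟩ := exists_partner_top hq hu0 hu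
    obtain ⟨s, hs, hvs⟩ := exists_partner_top hq hv0 hv
    by_cases h1 : polar q t v = 0
    · by_cases h3 : polar q u s = 0
      · refine ⟨t + s + (-polar q t s) • u, ?_, ?_, ?_⟩
        · simp only [QuadraticMap.map_add ⇑q, QuadraticMap.map_smul, polar_add_left, polar_smul_right, ht, hs, hu,
            polar_comm (f := ⇑q) t u, hut, polar_comm (f := ⇑q) s u, h3, smul_eq_mul]
          ring
        · simp [polar_add_right, polar_smul_right, hut, h3, polar_self', hu]
        · simp [polar_add_left, polar_smul_left, h1, polar_comm (f := ⇑q) s v, hvs, h]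
      · exact ⟨s, hs, h3, by rw [polar_comm, hvs]; exact one_ne_zero⟩
    · exact ⟨t, ht, by rw [hut]; exact one_ne_zero, h1⟩
  obtain ⟨e₁, he₁, c₁, hc₁, h₁⟩ := exists_map_of_pairing hq hu hz hzu
  obtain ⟨e₂, he₂, c₂, hc₂, h₂⟩ := exists_map_of_pairing hq hz hv hzv
  exact ⟨e₂ * e₁, by rw [map_mul, he₁, he₂, one_mul], c₁ * c₂, mul_ne_zero hc₁ hc₂,
    by rw [app_mul, h₁, map_smul, h₂, smul_smul]⟩

/-- A linear map killing the singular vectors is zero. -/
theorem eq_zero_of_singular {T : Matrix (Fin 4) (Fin 4) F} (h : ∀ u, q u = 0 → T *ᵥ u = 0) : T = 0 := by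
  obtain ⟨u, hu0, hu⟩ := exists_singular_ne_zero hq
  obtain ⟨v, hv, huv⟩ := exists_partner_top hq hu0 hu
  refine Matrix.ext_of_mulVec_single fun i => ?_
  rw [Matrix.zero_mulVec]
  set x : Fin 4 → F := Pi.single i 1
  set a := x - polar q x v • u - polar q x u • v with ha
  have hvu : polar q v u = 1 := by rw [polar_comm, huv]
  have hau : polar q u a = 0 := by
    simp [ha, polar_sub_right, polar_smul_right, polar_self', hu, huv, polar_comm (f := ⇑q) u x]
  have hav : polar q v a = 0 := by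
    simp [ha, polar_sub_right, polar_smul_right, polar_self', hv, hvu, polar_comm (f := ⇑q) v x]
  have hw : ∀ b, polar q u b = 0 → polar q v b = 0 → T *ᵥ b = (q b) • T *ᵥ u := by
    intro b hbu hbv
    have hsing : q (v + b + (-q b) • u) = 0 := by
      rw [QuadraticMap.map_add ⇑q, QuadraticMap.map_add ⇑q v, QuadraticMap.map_smul, hu, hv, hbv,
        polar_add_left, polar_smul_right, polar_smul_right, hvu, polar_comm (f := ⇑q) b u, hbu]
      simp
    have := h _ hsing
    rw [mulVec_add, mulVec_add, h v hv, mulVec_smul, zero_add] at this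
    rw [eq_neg_of_add_eq_zero_left this, neg_smul, neg_neg]
  have hTu : T *ᵥ u = 0 := h u hu
  have hTa : T *ᵥ a = 0 := by rw [hw a hau hav, hTu, smul_zero]
  have : x = a + polar q x v • u + polar q x u • v := by rw [ha]; abel
  rw [this, mulVec_add, mulVec_add, mulVec_smul, mulVec_smul, hTa, hTu, h v hv]
  simp

end CfsgLib.GeomClasses.OrthFour
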