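import Cfsg.Agent.Lib.GeomClasses.OrthFour.Transvection

/-!
In an overgroup without transvection the pencil of an element has a singular eigenvector only if it is
scalar.  Also: the self-adjoint maps commuting with the Eichler elements of a singular point.
-/

set_option autoImplicit false
set_option linter.unusedSectionVars false

namespace CfsgLib.GeomClasses.OrthFour

open Matrix QuadraticMap CfsgLib.Orth CfsgLib.GeomClasses.OrthSimilarity

variable {F : Type*} [Field F] [Fintype F] {q : QuadraticForm F (Fin 4 → F)} {M : Subgroup (GL (Fin 4) F)}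

/-- A self-adjoint map killing the orthogonal of a singular vector. -/
theorem eq_of_kills_hyperplane (hq : q.polarBilin.Nondegenerate) {T : Matrix (Fin 4) (Fin 4) F} (hT : IsSA q T)
    {u : Fin 4 → F} (hu0 : u ≠ 0) (hu : q u = 0) (h : ∀ y, polar q y u = 0 → T *ᵥ y = 0) :
    ∃ β : F, ∀ x, T *ᵥ x = (β * polar q x u) • u := by
  obtain ⟨v, hv, huv⟩ := exists_partner_top hq hu0 hu
  have hvu : polar q v u = 1 := by rw [polar_comm, huv]
  have hTx : ∀ x, T *ᵥ x = polar q x u • T *ᵥ v := by
    intro x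
    have h1 := h (x - polar q x u • v) (by simp [polar_sub_left, polar_smul_left, hvu])
    rwa [mulVec_sub, mulVec_smul, sub_eq_zero] at h1
  refine ⟨polar q (T *ᵥ v) v, fun x => ?_⟩
  have hTv : T *ᵥ v = polar q (T *ᵥ v) v • u := by
    refine eq_of_polar hq fun y => ?_
    rw [polar_smul_right, ← hT, hTx y, polar_smul_left]
    simp only [smul_eq_mul]
    ring
  rw [hTx x, hTv, smul_smul, ← hTv, mul_comm]

/-- A self-adjoint map commuting with the Eichler elements of a singular point. -/
theorem eq_of_commute_eich (hq : q.polarBilin.Nondegenerate) (h2 : (2 : F) ≠ 0) {T : Matrix (Fin 4) (Fin 4) F}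
    (hT : IsSA q T) {u : Fin 4 → F} (hu0 : u ≠ 0) (hu : q u = 0)
    (hc : ∀ a x, polar q u a = 0 → T *ᵥ app (eich q u a) x = app (eich q u a) (T *ᵥ x)) :
    ∃ α β : F, ∀ x, T *ᵥ x = α • x + (β * polar q x u) • u := by
  obtain ⟨v, hv, huv⟩ := exists_partner_top hq hu0 hu
  have hvu : polar q v u = 1 := by rw [polar_comm, huv]
  obtain ⟨hY, hYn⟩ := perp_plane hq hu hv huv
  have hN : ∀ a x, polar q u a = 0 →
      polar q x u • T *ᵥ a + (-polar q x a - q a * polar q x u) • T *ᵥ u =
        polar q (T *ᵥ x) u • a + (-polar q (T *ᵥ x) a - q a * polar q (T *ᵥ x) u) • u := by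
    intro a x hua
    have := hc a x hua
    rw [app_eich hu hua, app_eich hu hua, mulVec_add, mulVec_add, mulVec_smul, mulVec_smul, add_assoc,
      add_assoc] at this
    exact add_left_cancel this
  have huu : polar q u u = 0 := by rw [polar_self', hu, mul_zero]
  have hperp : ∀ a, polar q u a = 0 → polar q v a = 0 → a ≠ 0 → polar q (T *ᵥ u) u = 0 ∧ polar q (T *ᵥ u) a = 0 := by
    intro a hua hva ha
    have := hN a u hua
    rw [huu, hua, mul_zero, neg_zero, sub_zero, zero_smul, zero_smul, add_zero] at this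
    have h1 := congrArg (fun z => polar q v z) this
    simp only [polar_zero_right, polar_add_right, polar_smul_right, hva, hvu, smul_eq_mul, mul_zero, mul_one,
      zero_add] at h1
    have h3 : polar q (T *ᵥ u) u = 0 := by
      by_contra hne
      obtain ⟨y, hy, hay⟩ := hYn a (OrthEich.mem_orth_pair.2 ⟨hua, hva⟩) ha
      rw [OrthEich.mem_orth_pair] at hy
      have h4 := congrArg (fun z => polar q y z) this
      simp only [polar_zero_right, polar_add_right, polar_smul_right, polar_comm (f := ⇑q) y u, hy.1, smul_eq_mul,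
        mul_zero, add_zero, polar_comm (f := ⇑q) y a] at h4
      exact mul_ne_zero hne hay h4.symm
    rw [h3, mul_zero, sub_zero] at h1
    exact ⟨h3, by linear_combination h1⟩
  obtain ⟨a₀, ha₀, hqa₀⟩ := exists_aniso_mem hq hYn (fun h0 => by rw [h0, finrank_bot] at hY; omega)
  rw [OrthEich.mem_orth_pair] at ha₀
  have ha₀0 : a₀ ≠ 0 := fun h0 => hqa₀ (by rw [h0, QuadraticMap.map_zero])
  have hTuu := (hperp a₀ ha₀.1 ha₀.2 ha₀0).1
  set α := polar q (T *ᵥ u) v with hα
  have hTu : T *ᵥ u = α • u := by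
    refine eq_of_polar hq fun x => ?_
    set a := x - polar q x v • u - polar q x u • v with ha
    have hua : polar q u a = 0 := by
      simp [ha, polar_sub_right, polar_smul_right, huu, huv, polar_comm (f := ⇑q) u x]
    have hva : polar q v a = 0 := by
      simp [ha, polar_sub_right, polar_smul_right, polar_self', hv, hvu, polar_comm (f := ⇑q) v x]
    have hTa : polar q (T *ᵥ u) a = 0 := by
      rcases eq_or_ne a 0 with h0 | h0
      · rw [h0, polar_zero_right]
      · exact (hperp a hua hva h0).2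
    rw [ha, polar_sub_right, polar_sub_right, polar_smul_right, polar_smul_right, hTuu, ← hα, smul_zero,
      sub_zero, sub_eq_zero, smul_eq_mul, polar_comm] at hTa
    rw [polar_smul_right, hTa, smul_eq_mul, mul_comm]
  have hTxu : ∀ x, polar q (T *ᵥ x) u = α * polar q x u := fun x => by
    rw [hT, hTu, polar_smul_right, smul_eq_mul]
  have hN' : ∀ a, polar q u a = 0 → T *ᵥ a - α • a = (α * polar q v a - polar q (T *ᵥ v) a) • u := by
    intro a hua
    have := hN a v hua
    rw [hTxu v, hvu, hTu, one_smul, mul_one, mul_one] at this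
    rw [sub_eq_iff_eq_add, eq_comm] at *
    linear_combination (norm := module) this
  have hkill : ∀ a, polar q a u = 0 → T *ᵥ a = α • a := by
    intro a hau
    have hua : polar q u a = 0 := by rw [polar_comm, hau]
    have h1 := congrArg (fun z => polar q v z) (hN' a hua)
    simp only [polar_sub_right, polar_smul_right, hvu, smul_eq_mul, mul_one, ← hT v a] at h1
    have h3 : α * polar q v a - polar q (T *ᵥ v) a = 0 :=
      (mul_eq_zero.1 (show (2 : F) * (α * polar q v a - polar q (T *ᵥ v) a) = 0 by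
        linear_combination -h1)).resolve_left h2
    have := hN' a hua
    rwa [h3, zero_smul, sub_eq_zero] at this
  obtain ⟨β, hβ⟩ := eq_of_kills_hyperplane hq (T := T - α • 1)
    (fun x y => by
      rw [sub_mulVec, sub_mulVec, smul_mulVec, smul_mulVec, one_mulVec, one_mulVec, polar_sub_left,
        polar_sub_right, polar_smul_left, polar_smul_right, hT])
    hu0 hu (fun y hy => by rw [sub_mulVec, smul_mulVec, one_mulVec, hkill y hy, sub_self])
  refine ⟨α, β, fun x => ?_⟩
  have := hβ x
  rw [sub_mulVec, smul_mulVec, one_mulVec, sub_eq_iff_eq_add] at this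
  rw [this, add_comm]

/-- The case of an element fixing the singular point. -/
theorem Setting.flag_core (S : Setting q M) {m L : GL (Fin 4) F} (hm : m ∈ M) (hL : IsPen q m L)
    {u : Fin 4 → F} (hu0 : u ≠ 0) (hu : q u = 0) {c lam : F}
    (hmu : (m : Matrix (Fin 4) (Fin 4) F) *ᵥ u = c • u) (hLu : (L : Matrix (Fin 4) (Fin 4) F) *ᵥ u = lam • u) :
    ∃ k : F, (L : Matrix (Fin 4) (Fin 4) F) = k • 1 := by
  set Lm := (L : Matrix (Fin 4) (Fin 4) F) with hLm
  have hSA : IsSA q Lm := hL.isSA S.nd
  have hlam : lam ≠ 0 := fun h0 => gl_mulVec_ne_zero L hu0 (by rw [← hLm, hLu, h0, zero_smul])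
  have hc0 : c ≠ 0 := fun h0 => gl_mulVec_ne_zero m hu0 (by rw [hmu, h0, zero_smul])
  have huu : polar q u u = 0 := by rw [polar_self', hu, mul_zero]
  obtain ⟨v, hv, huv⟩ := exists_partner_top S.nd hu0 hu
  have hvu : polar q v u = 1 := by rw [polar_comm, huv]
  set κ := c * lam with hκ
  have hinv : ∀ x, polar q (((m⁻¹ : GL (Fin 4) F) : Matrix (Fin 4) (Fin 4) F) *ᵥ x) u = κ * polar q x u := by
    intro x
    have := hL x ((m : Matrix (Fin 4) (Fin 4) F) *ᵥ u)
    rw [gl_inv_mulVec_mulVec, hmu, mulVec_smul, ← hLm, hLu, smul_smul, polar_smul_right] at this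
    exact this
  have hmain : ∀ A, polar q A u = 0 → Lm *ᵥ A = lam • A := by
    intro A hAu
    set a := ((m⁻¹ : GL (Fin 4) F) : Matrix (Fin 4) (Fin 4) F) *ᵥ A with ha
    have hma : (m : Matrix (Fin 4) (Fin 4) F) *ᵥ a = A := gl_mulVec_inv_mulVec m A
    have hua : polar q u a = 0 := by rw [polar_comm, ha, hinv, hAu, mul_zero]
    have huA : polar q u A = 0 := by rw [polar_comm, hAu]
    have hxa : ∀ x, polar q (((m⁻¹ : GL (Fin 4) F) : Matrix (Fin 4) (Fin 4) F) *ᵥ x) a = polar q x (Lm *ᵥ A) := by
      intro x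
      rw [ha, hL, hLm]
    set E : GL (Fin 4) F := m * ((eich q u a : O q) : GL (Fin 4) F) * m⁻¹ with hE
    have hEM : E ∈ M := M.mul_mem (M.mul_mem hm (S.isometry_mem (detHom_eich S.nd S.two hu hua))) (M.inv_mem hm)
    have hEx : ∀ x, (E : Matrix (Fin 4) (Fin 4) F) *ᵥ x =
        x + (κ * polar q x u) • A + (-(c * polar q x (Lm *ᵥ A)) - c * q a * κ * polar q x u) • u := by
      intro x
      rw [hE, gl_mul_mulVec, gl_mul_mulVec,
        show (((eich q u a : O q) : GL (Fin 4) F) : Matrix (Fin 4) (Fin 4) F) *ᵥ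
          (((m⁻¹ : GL (Fin 4) F) : Matrix (Fin 4) (Fin 4) F) *ᵥ x) =
            app (eich q u a) (((m⁻¹ : GL (Fin 4) F) : Matrix (Fin 4) (Fin 4) F) *ᵥ x) from rfl,
        app_eich hu hua, mulVec_add, mulVec_add, mulVec_smul, mulVec_smul, gl_mulVec_inv_mulVec, hma, hmu,
        hinv, hxa]
      module
    have hLA : polar q u (Lm *ᵥ A) = 0 := by rw [← hSA, hLu, polar_smul_left, huA, smul_zero]
    have happ : ∀ (e : O q) (x : Fin 4 → F), ((e : GL (Fin 4) F) : Matrix (Fin 4) (Fin 4) F) *ᵥ x = app e x :=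
      fun e x => rfl
    have hzero : ∀ {r : F}, tv (r • u) (dual q u) ∈ M → r = 0 := fun {r} h => by
      by_contra hr
      exact S.no_root hu0 hu hr h
    -- first the commutators with the Eichler elements
    have hgam : ∀ b, polar q u b = 0 → κ * polar q A b = c * polar q b (Lm *ᵥ A) := by
      intro b hub
      set r := κ * polar q A b - c * polar q b (Lm *ᵥ A) with hr
      set B := ((eich q u b : O q) : GL (Fin 4) F) with hB
      have hBM : B ∈ M := S.isometry_mem (detHom_eich S.nd S.two hu hub)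
      have h0 : dual q u ⬝ᵥ (r • u) = 0 := by rw [dual_dot, polar_smul_left, huu, smul_zero]
      have e : tv (r • u) (dual q u) * (B * E) = E * B := by
        refine gl_ext fun x => ?_
        simp only [gl_mul_mulVec, tv_mulVec h0, hB, happ, app_eich hu hub, hEx, dual_dot]
        simp only [polar_add_left, polar_smul_left, polar_comm (f := ⇑q) b u, hub, hAu, huu, smul_eq_mul, hLA, hr]
        simp only [mul_zero, add_zero]
        module
      have hmem := M.mul_mem (M.mul_mem hEM hBM) (M.inv_mem (M.mul_mem hBM hEM))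
      rw [← e, mul_inv_cancel_right] at hmem
      exact sub_eq_zero.1 (hzero hmem)
    set γ := polar q v (Lm *ᵥ A) - lam * polar q v A with hγ
    have hLA' : Lm *ᵥ A = lam • A + γ • u := by
      refine eq_of_polar S.nd fun x => ?_
      set b := x - polar q x u • v with hb
      have hub : polar q u b = 0 := by
        simp [hb, polar_sub_right, polar_smul_right, huv, polar_comm (f := ⇑q) u x]
      have h1 := hgam b hub
      rw [hκ, hb, polar_sub_right, polar_sub_left, polar_smul_right, polar_smul_left] at h1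
      simp only [smul_eq_mul, polar_comm (f := ⇑q) A x, polar_comm (f := ⇑q) A v] at h1
      rw [polar_add_right, polar_smul_right, polar_smul_right, hγ]
      simp only [smul_eq_mul]
      exact mul_left_cancel₀ hc0 (by linear_combination -h1)
    -- then the comparison with an Eichler element
    have hqa : q a = lam * q A := by
      have h1 := hL A A
      rw [← ha, ← hLm, hLA', polar_add_right, polar_smul_right, polar_smul_right, hAu, polar_self',
        polar_self', smul_zero, add_zero, smul_eq_mul] at h1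
      exact mul_left_cancel₀ S.two (by linear_combination h1)
    have hukA : polar q u (κ • A) = 0 := by rw [polar_smul_right, huA, smul_zero]
    set r := -(c * γ) with hr
    have h0 : dual q u ⬝ᵥ (r • u) = 0 := by rw [dual_dot, polar_smul_left, huu, smul_zero]
    have e : tv (r • u) (dual q u) * ((eich q u (κ • A) : O q) : GL (Fin 4) F) = E := by
      refine gl_ext fun x => ?_
      simp only [gl_mul_mulVec, tv_mulVec h0, happ, app_eich hu hukA, hEx, dual_dot]
      simp only [polar_add_left, polar_smul_left, polar_smul_right, hAu, huu, smul_eq_mul, hLA', hqa,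
        QuadraticMap.map_smul, polar_add_right, hr, hκ]
      simp only [mul_zero, add_zero]
      module
    have hmem := M.mul_mem hEM (M.inv_mem (S.isometry_mem (detHom_eich S.nd S.two hu hukA)))
    rw [← e, mul_inv_cancel_right] at hmem
    rw [hLA', (neg_eq_zero.1 (hzero hmem) |> mul_eq_zero.1).resolve_left hc0, zero_smul, add_zero]
  obtain ⟨β, hβ⟩ := eq_of_kills_hyperplane S.nd (T := Lm - lam • 1)
    (fun x y => by
      rw [sub_mulVec, sub_mulVec, smul_mulVec, smul_mulVec, one_mulVec, one_mulVec, polar_sub_left,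
        polar_sub_right, polar_smul_left, polar_smul_right, hSA])
    hu0 hu (fun y hy => by rw [sub_mulVec, smul_mulVec, one_mulVec, hmain y hy, sub_self])
  have hLx : ∀ x, Lm *ᵥ x = lam • x + (β * polar q x u) • u := fun x => by
    have := hβ x
    rw [sub_mulVec, smul_mulVec, one_mulVec, sub_eq_iff_eq_add] at this
    rw [this, add_comm]
  set t := β / (2 * lam) with ht
  have ht2 : 2 * lam * t = β := by rw [ht, mul_div_cancel₀]; exact mul_ne_zero S.two hlam
  set τ := tv (t • u) (dual q u) with hτ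
  have h0 : dual q u ⬝ᵥ (t • u) = 0 := by rw [dual_dot, polar_smul_left, huu, smul_zero]
  have hsim : τ * m ∈ Cfsg.Geo.quadSimilarityGroup (q : (Fin 4 → F) → F) := by
    refine ⟨Units.mk0 lam⁻¹ (inv_ne_zero hlam), fun y => ?_⟩
    rw [gl_mul_mulVec, hτ, tv_mulVec h0, dual_dot, Units.val_mk0, eq_inv_mul_iff_mul_eq₀ hlam]
    set x := (m : Matrix (Fin 4) (Fin 4) F) *ᵥ y with hx
    have h1 := hL x x
    rw [hx, gl_inv_mulVec_mulVec, ← hx, ← hLm, hLx, polar_add_right, polar_smul_right, polar_smul_right,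
      polar_self', polar_self'] at h1
    refine mul_left_cancel₀ S.two ?_
    rw [QuadraticMap.map_add ⇑q x, QuadraticMap.map_smul, QuadraticMap.map_smul, hu, polar_smul_right,
      polar_smul_right]
    simp only [smul_eq_mul, mul_zero, add_zero] at h1 ⊢
    linear_combination -h1 + (polar q x u * polar q x u) * ht2
  have hτM : τ ∈ M := by
    have h1 : τ * m ∈ M := S.sim ⟨hsim, (Cfsg.Geo.specialLinear (Fin 4) F).mul_mem (tv_mem_specialLinear _ _) (S.le hm)⟩
    have := M.mul_mem h1 (M.inv_mem hm)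
    rwa [mul_inv_cancel_right] at this
  have ht0 : t = 0 := by
    by_contra hne
    exact S.no_root hu0 hu hne hτM
  refine ⟨lam, Matrix.ext_of_mulVec_single fun i => ?_⟩
  rw [ht0, mul_zero] at ht2
  rw [hLx, ← ht2, zero_mul, zero_smul, add_zero, smul_mulVec, one_mulVec]

/-- No singular eigenvector unless scalar. -/
theorem Setting.eigen_scalar (S : Setting q M) {m L : GL (Fin 4) F} (hm : m ∈ M) (hL : IsPen q m L)
    {u : Fin 4 → F} (hu0 : u ≠ 0) (hu : q u = 0) {lam : F}
    (hLu : (L : Matrix (Fin 4) (Fin 4) F) *ᵥ u = lam • u) :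
    ∃ k : F, (L : Matrix (Fin 4) (Fin 4) F) = k • 1 := by
  set w := ((m⁻¹ : GL (Fin 4) F) : Matrix (Fin 4) (Fin 4) F) *ᵥ u with hw
  have hw0 : w ≠ 0 := gl_mulVec_ne_zero _ hu0
  have hqw : q w = 0 := by
    have h1 := hL u u
    rw [hLu, polar_smul_right, polar_self', polar_self', hu, mul_zero, smul_zero, ← hw] at h1
    exact (mul_eq_zero.1 h1).resolve_left S.two
  obtain ⟨e, he, k, hk, hek⟩ := exists_map_singular S.nd hu0 hu hw0 hqw
  set E := (e : GL (Fin 4) F) with hEdef
  have hEu : (E : Matrix (Fin 4) (Fin 4) F) *ᵥ u = k • w := hek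
  have hmu : ((E * m : GL (Fin 4) F) : Matrix (Fin 4) (Fin 4) F) *ᵥ w = k • w := by
    rw [gl_mul_mulVec, hw, gl_mulVec_inv_mulVec, hEu]
  have hEiw : ((E⁻¹ : GL (Fin 4) F) : Matrix (Fin 4) (Fin 4) F) *ᵥ w = k⁻¹ • u := by
    have h := congrArg (fun z => ((E⁻¹ : GL (Fin 4) F) : Matrix (Fin 4) (Fin 4) F) *ᵥ z) hEu
    simp only [gl_inv_mulVec_mulVec, mulVec_smul] at h
    rw [h, inv_smul_smul₀ hk]
  have hLw : ((E * L * E⁻¹ : GL (Fin 4) F) : Matrix (Fin 4) (Fin 4) F) *ᵥ w = lam • w := by
    rw [gl_mul_mulVec, gl_mul_mulVec, hEiw, mulVec_smul, hLu, mulVec_smul, mulVec_smul, hEu, smul_smul, smul_smul,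
      show k⁻¹ * lam * k = lam by field_simp]
  obtain ⟨t, ht⟩ := S.flag_core (M.mul_mem (S.isometry_mem he) hm) (hL.isometry_mul S.nd e) hw0 hqw hmu hLw
  refine ⟨t, Matrix.ext_of_mulVec_single fun i => gl_mulVec_injective E ?_⟩
  show (E : Matrix (Fin 4) (Fin 4) F) *ᵥ ((L : Matrix (Fin 4) (Fin 4) F) *ᵥ Pi.single i 1) =
    (E : Matrix (Fin 4) (Fin 4) F) *ᵥ ((t • (1 : Matrix (Fin 4) (Fin 4) F)) *ᵥ Pi.single i 1)
  rw [← gl_mul_mulVec, show E * L = E * L * E⁻¹ * E by group, gl_mul_mulVec, ht, smul_mulVec, one_mulVec,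
    smul_mulVec, one_mulVec, mulVec_smul]

end CfsgLib.GeomClasses.OrthFour
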