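import Cfsg.Agent.Lib.GeomClasses.OrthFour.Quadratic

/-!
The orthogonal similitudes of determinant one form a maximal subgroup of the special linear group of
degree four in odd characteristic.  All pencils of a counterexample are quadratic.  If one of them has
non-zero trace, the conjugates of its trace-free part span a space of maps squaring to scalars which is
invariant under isometries.  If none has, the conjugates under an Eichler group are orthogonal for the
trace form, which leaves three scalars and again such a space.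
-/

set_option autoImplicit false
set_option linter.unusedSectionVars false

namespace CfsgLib.GeomClasses.OrthFour

open Matrix QuadraticMap CfsgLib.Orth CfsgLib.GeomClasses.OrthSimilarity

variable {F : Type*} [Field F] [Fintype F] {q : QuadraticForm F (Fin 4 → F)} {M : Subgroup (GL (Fin 4) F)}

/-- The self-adjoint map `x ↦ B(x,u) u`. -/
noncomputable def rk (q : QuadraticForm F (Fin 4 → F)) (u : Fin 4 → F) : Matrix (Fin 4) (Fin 4) F :=
  vecMulVec u (dual q u)

theorem rk_mulVec (u x : Fin 4 → F) : rk q u *ᵥ x = polar q x u • u := by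
  rw [rk, vecMulVec_mulVec, dual_dot, op_smul_eq_smul]

theorem rk_sa (u : Fin 4 → F) : IsSA q (rk q u) := fun x y => by
  rw [rk_mulVec, rk_mulVec, polar_smul_left, polar_smul_right, polar_comm (f := ⇑q) u y, smul_eq_mul, smul_eq_mul,
    mul_comm]

theorem rk_trace {u : Fin 4 → F} (hu : q u = 0) : (rk q u).trace = 0 := by
  rw [rk, trace_vecMulVec, dotProduct_comm, dual_dot, polar_self', hu, mul_zero]

/-- Two such maps at paired points do not anticommute up to scalars. -/
theorem rk_anticomm_ne (hq : q.polarBilin.Nondegenerate) {u v : Fin 4 → F} (hu0 : u ≠ 0) (hu : q u = 0)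
    (hv : q v = 0) (huv : polar q u v = 1) (k : F) : rk q u * rk q v + rk q v * rk q u ≠ k • 1 := by
  intro h
  have hx : ∀ x, polar q x v • polar q v u • u + polar q x u • polar q u v • v = k • x := fun x => by
    have := congrArg (fun T => T *ᵥ x) h
    simp only [add_mulVec, ← mulVec_mulVec, rk_mulVec, mulVec_smul, smul_mulVec, one_mulVec] at this
    exact this
  obtain ⟨hY, hYn⟩ := perp_plane hq hu hv huv
  obtain ⟨a, ha, ha0⟩ := Submodule.exists_mem_ne_zero_of_ne_bot
    (p := OrthTools.orth q (Submodule.span F ({u, v} : Set (Fin 4 → F))))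
    (fun h0 => by rw [h0, finrank_bot] at hY; omega)
  rw [OrthEich.mem_orth_pair] at ha
  have h1 := hx u
  rw [polar_self', hu, mul_zero, zero_smul, add_zero, polar_comm (f := ⇑q) v u, huv, one_smul, one_smul] at h1
  have hk : k = 1 := smul_left_injective F hu0 (by simpa using h1.symm)
  have h2 := hx a
  rw [polar_comm (f := ⇑q) a v, ha.2, polar_comm (f := ⇑q) a u, ha.1, zero_smul, zero_smul, add_zero, hk,
    one_smul] at h2
  exact ha0 h2.symm

/-- A block form for a self-adjoint map squaring to a scalar. -/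
theorem exists_block (hq : q.polarBilin.Nondegenerate) (h2 : (2 : F) ≠ 0) {N : Matrix (Fin 4) (Fin 4) F}
    (hni : NoEigen q N) {d : F} (hd : d ≠ 0) (hN : N * N = d • 1) (hns : ∀ k : F, N ≠ k • 1) :
    ∃ T : GL (Fin 4) F, N * (T : Matrix (Fin 4) (Fin 4) F) =
      (T : Matrix (Fin 4) (Fin 4) F) * !![0, d, 0, 0; 1, 0, 0, 0; 0, 0, 0, d; 0, 0, 1, 0] := by
  have hNN : ∀ x, N *ᵥ (N *ᵥ x) = d • x := fun x => by rw [mulVec_mulVec, hN, smul_mulVec, one_mulVec]
  obtain ⟨a, hane⟩ : ∃ a, ∀ k : F, N *ᵥ a ≠ k • a := by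
    by_contra! hall
    obtain ⟨u, hu0, hu⟩ := exists_singular_ne_zero (q := q) hq
    obtain ⟨k, hk⟩ := hall u
    exact hni u k hu0 hu hk
  have ha0 : a ≠ 0 := fun h0 => hane 0 (by simp [h0])
  set W := plane N a with hW
  have hWd : Module.finrank F W = 2 := finrank_plane ha0 hane
  have hWinv : ∀ x ∈ W, N *ᵥ x ∈ W := by
    intro x hx
    obtain ⟨r, s, rfl⟩ := Submodule.mem_span_pair.1 hx
    rw [mulVec_add, mulVec_smul, mulVec_smul, hNN]
    exact Submodule.mem_span_pair.2 ⟨s * d, r, by module⟩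
  let P : F → Submodule F (Fin 4 → F) := fun e => W.comap (Matrix.toLin' (N + e • 1))
  have hPne : ∀ e : F, e * e = d → P e ≠ ⊤ := by
    intro e he htop
    have hmap : ∀ x, (N + e • 1) *ᵥ x ∈ W := fun x => by
      have : x ∈ P e := htop ▸ Submodule.mem_top
      simp only [P, Submodule.mem_comap, Matrix.toLin'_apply] at this
      exact this
    have heig : ∀ x, N *ᵥ ((N + e • 1) *ᵥ x) = e • ((N + e • 1) *ᵥ x) := fun x => by
      rw [add_mulVec, smul_mulVec, one_mulVec, mulVec_add, mulVec_smul, hNN, smul_add, smul_smul, he, add_comm]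
    set r := (N + e • 1) *ᵥ a with hr
    have hr0 : r ≠ 0 := fun h0 => hane (-e) (by
      rw [hr, add_mulVec, smul_mulVec, one_mulVec, add_eq_zero_iff_eq_neg] at h0
      rw [h0, neg_smul])
    have hRle : LinearMap.range (Matrix.toLin' (N + e • 1)) ≤ Submodule.span F {r} := by
      rintro _ ⟨x, rfl⟩
      rw [Matrix.toLin'_apply]
      by_contra hx
      set s := (N + e • 1) *ᵥ x with hs
      have hli := (LinearIndependent.pair_iff' hr0).2 fun k h0 => hx (Submodule.mem_span_singleton.2 ⟨k, h0⟩)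
      have hspan : Submodule.span F (Set.range ![r, s]) = W :=
        Submodule.eq_of_le_of_finrank_le (Submodule.span_le.2 (by
          rintro _ ⟨i, rfl⟩
          fin_cases i <;> exact hmap _)) (by rw [finrank_span_eq_card hli, hWd, Fintype.card_fin])
      have haW : a ∈ Submodule.span F (Set.range ![r, s]) := by rw [hspan]; exact Submodule.subset_span (by simp)
      obtain ⟨c, hc⟩ := (Submodule.mem_span_range_iff_exists_fun F).1 haW
      rw [Fin.sum_univ_two] at hc
      simp only [Matrix.cons_val_zero, Matrix.cons_val_one, Matrix.head_cons] at hc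
      exact hane e (by rw [← hc, mulVec_add, mulVec_smul, mulVec_smul, hr, hs, heig, heig]; module)
    have h1 := Submodule.finrank_mono hRle
    rw [finrank_span_singleton hr0] at h1
    have h3 := LinearMap.finrank_range_add_finrank_ker (Matrix.toLin' (N + e • 1))
    rw [Module.finrank_fintype_fun_eq_card, Fintype.card_fin] at h3
    obtain ⟨x, hx, hx0, hqx⟩ := OrthTools.exists_singular hq (LinearMap.ker (Matrix.toLin' (N + e • 1))) (by omega)
    rw [LinearMap.mem_ker, Matrix.toLin'_apply, add_mulVec, smul_mulVec, one_mulVec, add_eq_zero_iff_eq_neg] at hx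
    exact hni x (-e) hx0 hqx (by rw [hx, neg_smul])
  have hWP : ∀ e x, x ∈ W → x ∈ P e := fun e x hx => by
    simp only [P, Submodule.mem_comap, Matrix.toLin'_apply, add_mulVec, smul_mulVec, one_mulVec]
    exact W.add_mem (hWinv x hx) (W.smul_mem _ hx)
  obtain ⟨b, hbW, hbP⟩ : ∃ b, b ∉ W ∧ ∀ e, e * e = d → b ∉ P e := by
    by_cases hsq : ∃ e, e * e = d
    · obtain ⟨e, he⟩ := hsq
      obtain ⟨x, hx⟩ : ∃ x, x ∉ P e := by
        by_contra! hall
        exact hPne e he (eq_top_iff.2 fun x _ => hall x)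
      obtain ⟨y, hy⟩ : ∃ y, y ∉ P (-e) := by
        by_contra! hall
        exact hPne (-e) (by rw [neg_mul_neg, he]) (eq_top_iff.2 fun x _ => hall x)
      obtain ⟨b, hb1, hb2⟩ : ∃ b, b ∉ P e ∧ b ∉ P (-e) := by
        by_cases h1 : x ∈ P (-e)
        · by_cases h3 : y ∈ P e
          · exact ⟨x + y, fun h => hx ((Submodule.add_mem_iff_left _ h3).1 h),
              fun h => hy ((Submodule.add_mem_iff_right _ h1).1 h)⟩
          · exact ⟨y, h3, hy⟩
        · exact ⟨x, hx, h1⟩
      refine ⟨b, fun h => hb1 (hWP _ _ h), fun e' he' => ?_⟩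
      rcases mul_self_eq_mul_self_iff.1 (he'.trans he.symm) with rfl | rfl
      · exact hb1
      · exact hb2
    · obtain ⟨b, -, hb⟩ := SetLike.exists_of_lt (show W < ⊤ from lt_of_le_of_ne le_top fun h0 => by
        rw [h0, finrank_top, Module.finrank_fintype_fun_eq_card, Fintype.card_fin] at hWd; omega)
      exact ⟨b, hb, fun e he => absurd ⟨e, he⟩ hsq⟩
  have hmeet : ∀ r s : F, r • b + s • N *ᵥ b ∈ W → r = 0 ∧ s = 0 := by
    intro r s h
    by_cases hs : s = 0
    · subst hs
      rw [zero_smul, add_zero] at h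
      exact ⟨by_contra fun hr => hbW ((Submodule.smul_mem_iff W hr).1 h), rfl⟩
    exfalso
    have h1 : (r * r - d * (s * s)) • b ∈ W := by
      have := W.sub_mem (W.smul_mem r h) (W.smul_mem s (hWinv _ h))
      convert this using 1
      rw [mulVec_add, mulVec_smul, mulVec_smul, hNN]
      module
    by_cases h0 : r * r - d * (s * s) = 0
    · refine hbP (r / s) (by field_simp; linear_combination h0) ?_
      simp only [P, Submodule.mem_comap, Matrix.toLin'_apply, add_mulVec, smul_mulVec, one_mulVec]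
      have := W.smul_mem s⁻¹ h
      convert this using 1
      match_scalars <;> field_simp
    · exact hbW ((Submodule.smul_mem_iff W h0).1 h1)
  let T₀ : Matrix (Fin 4) (Fin 4) F := Matrix.of fun i j => ![a, N *ᵥ a, b, N *ᵥ b] j i
  have hT : ∀ x, T₀ *ᵥ x = x 0 • a + x 1 • N *ᵥ a + x 2 • b + x 3 • N *ᵥ b := fun x => by
    funext i
    simp [T₀, mulVec, dotProduct, Fin.sum_univ_four, mul_comm]
  have hinj : Function.Injective T₀.mulVec := by
    intro x y hxy
    rw [← sub_eq_zero, ← mulVec_sub, hT] at hxy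
    set z := x - y with hz
    obtain ⟨h23, h3⟩ := hmeet (z 2) (z 3) (by
      have : z 2 • b + z 3 • N *ᵥ b = -(z 0 • a + z 1 • N *ᵥ a) := by
        rw [eq_neg_iff_add_eq_zero, ← hxy]; module
      rw [this]
      exact W.neg_mem (W.add_mem (W.smul_mem _ (Submodule.subset_span (by simp)))
        (W.smul_mem _ (Submodule.subset_span (by simp)))))
    rw [h23, h3, zero_smul, zero_smul, add_zero, add_zero] at hxy
    obtain ⟨h0, h1⟩ := LinearIndependent.pair_iff.1
      ((LinearIndependent.pair_iff' ha0).2 fun k => (hane k).symm) _ _ hxy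
    rw [← sub_eq_zero]
    funext i
    fin_cases i <;> assumption
  obtain ⟨T, hTT⟩ := Matrix.mulVec_injective_iff_isUnit.1 hinj
  refine ⟨T, ?_⟩
  rw [hTT]
  refine Matrix.ext_of_mulVec_single fun j => ?_
  rw [← mulVec_mulVec, ← mulVec_mulVec, hT, hT]
  fin_cases j <;> simp [mulVec_smul, hNN, Matrix.vecHead, Matrix.vecTail]

/-- The normal form of a pencil. -/
theorem Setting.normal (S : Setting q M) {m L : GL (Fin 4) F} (hm : m ∈ M) (hL : IsPen q m L)
    (hns : ∀ k : F, (L : Matrix (Fin 4) (Fin 4) F) ≠ k • 1) :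
    ∃ (s d : F) (N : Matrix (Fin 4) (Fin 4) F), (L : Matrix (Fin 4) (Fin 4) F) = s • 1 + N ∧ d ≠ 0 ∧
      N * N = d • 1 ∧ IsSA q N ∧ (∀ k : F, N ≠ k • 1) ∧ N.trace = 0 ∧
      (L : Matrix (Fin 4) (Fin 4) F).det = (s * s - d) ^ 2 := by
  obtain ⟨γ, δ, hquad⟩ := S.quadratic hm hL hns
  set A := (L : Matrix (Fin 4) (Fin 4) F) with hA
  have hni : NoEigen q A := S.noEigen hm hL hns
  have hSA : IsSA q A := hL.isSA S.nd
  set s := γ / 2 with hs
  set N := A - s • 1 with hN
  have hs2 : s + s = γ := by rw [hs, ← add_div, ← two_mul, mul_div_cancel_left₀ _ S.two]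
  have hAN : A = s • 1 + N := by rw [hN]; abel
  have hNN : N * N = (δ + s * s) • 1 := by
    rw [hN, sub_mul, mul_sub, mul_sub, hquad]
    simp only [smul_mul_assoc, one_mul, mul_smul_comm, mul_one, smul_smul]
    rw [← hs2]
    module
  have hNsa : IsSA q N := fun x y => by
    rw [hN, sub_mulVec, sub_mulVec, smul_mulVec, smul_mulVec, one_mulVec, one_mulVec, polar_sub_left,
      polar_sub_right, polar_smul_left, polar_smul_right, hSA]
  have hNns : ∀ k : F, N ≠ k • 1 := fun k h => hns (s + k) (by rw [hAN, h, add_smul])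
  have hNni : NoEigen q N := fun u k hu0 hu h => hni u (s + k) hu0 hu (by
    rw [hAN, add_mulVec, smul_mulVec, one_mulVec, h, add_smul])
  have hd : δ + s * s ≠ 0 := by
    intro h0
    rw [h0, zero_smul] at hNN
    refine hNns 0 ?_
    rw [zero_smul]
    refine Matrix.ext_of_mulVec_single fun i => ?_
    rw [zero_mulVec]
    by_contra hne
    refine hNni _ 0 hne ((mul_eq_zero.1 ?_).resolve_left S.two) (by rw [mulVec_mulVec, hNN, zero_mulVec, zero_smul])
    rw [← polar_self' (Q := q), hNsa, mulVec_mulVec, hNN, zero_mulVec, polar_zero_right]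
  obtain ⟨T, hT⟩ := exists_block S.nd S.two hNni hd hNN hNns
  set C : Matrix (Fin 4) (Fin 4) F :=
    !![0, δ + s * s, 0, 0; 1, 0, 0, 0; 0, 0, 0, δ + s * s; 0, 0, 1, 0] with hC
  set Ti := ((T⁻¹ : GL (Fin 4) F) : Matrix (Fin 4) (Fin 4) F) with hTi
  have hTTi : (T : Matrix (Fin 4) (Fin 4) F) * Ti = 1 := by
    rw [hTi, ← Units.val_mul, mul_inv_cancel, Units.val_one]
  have hTiT : Ti * (T : Matrix (Fin 4) (Fin 4) F) = 1 := by
    rw [hTi, ← Units.val_mul, inv_mul_cancel, Units.val_one]
  have hNC : N = (T : Matrix (Fin 4) (Fin 4) F) * C * Ti := by rw [← hT, mul_assoc, hTTi, mul_one]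
  refine ⟨s, δ + s * s, N, hAN, hd, hNN, hNsa, hNns, ?_, ?_⟩
  · rw [hNC, trace_mul_cycle, hTiT, one_mul, hC]
    simp [Matrix.trace, Fin.sum_univ_four]
  · have h1 : A = (T : Matrix (Fin 4) (Fin 4) F) * (s • 1 + C) * Ti := by
      rw [mul_add, add_mul, ← hNC, mul_smul_comm, mul_one, smul_mul_assoc, hTTi, hAN]
    rw [h1, det_mul, det_mul, mul_right_comm, ← det_mul, hTTi, det_one, one_mul, hC]
    have hsC : s • (1 : Matrix (Fin 4) (Fin 4) F) + !![0, δ + s * s, 0, 0; 1, 0, 0, 0; 0, 0, 0, δ + s * s; 0, 0, 1, 0]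
        = !![s, δ + s * s, 0, 0; 1, s, 0, 0; 0, 0, s, δ + s * s; 0, 0, 1, s] := by
      ext i j
      fin_cases i <;> fin_cases j <;> simp
    rw [hsC]
    simp [Matrix.det_succ_row_zero, Fin.sum_univ_succ, Fin.succAbove]
    ring

theorem trace_conj (m : GL (Fin 4) F) (P : Matrix (Fin 4) (Fin 4) F) :
    (((m⁻¹ : GL (Fin 4) F) : Matrix (Fin 4) (Fin 4) F) * P * (m : Matrix (Fin 4) (Fin 4) F)).trace = P.trace := by
  rw [trace_mul_cycle, ← Units.val_mul, mul_inv_cancel, Units.val_one, one_mul]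

/-- The trace-free parts of a pencil and of its conjugate anticommute up to a scalar. -/
theorem Setting.anticomm (S : Setting q M) {m L : GL (Fin 4) F} (hm : m ∈ M) (hL : IsPen q m L) {s d : F}
    {N : Matrix (Fin 4) (Fin 4) F} (hs : s ≠ 0) (h4 : (4 : F) ≠ 0)
    (hLN : (L : Matrix (Fin 4) (Fin 4) F) = s • 1 + N) (hN : N * N = d • 1) (hSA : IsSA q N) (htr : N.trace = 0)
    (hdet : (L : Matrix (Fin 4) (Fin 4) F).det = (s * s - d) ^ 2) {e : O q} (he : detHom q e = 1) :
    ∃ k : F, N * (((e : GL (Fin 4) F) : Matrix (Fin 4) (Fin 4) F) * N *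
        (((e : GL (Fin 4) F)⁻¹ : GL (Fin 4) F) : Matrix (Fin 4) (Fin 4) F)) +
      (((e : GL (Fin 4) F) : Matrix (Fin 4) (Fin 4) F) * N *
        (((e : GL (Fin 4) F)⁻¹ : GL (Fin 4) F) : Matrix (Fin 4) (Fin 4) F)) * N = k • 1 := by
  set E := (e : GL (Fin 4) F) with hE
  set N' := (E : Matrix (Fin 4) (Fin 4) F) * N * ((E⁻¹ : GL (Fin 4) F) : Matrix (Fin 4) (Fin 4) F) with hN'
  have hEE : (E : Matrix (Fin 4) (Fin 4) F) * ((E⁻¹ : GL (Fin 4) F) : Matrix (Fin 4) (Fin 4) F) = 1 := by
    rw [← Units.val_mul, mul_inv_cancel, Units.val_one]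
  have hEiE : ((E⁻¹ : GL (Fin 4) F) : Matrix (Fin 4) (Fin 4) F) * (E : Matrix (Fin 4) (Fin 4) F) = 1 := by
    rw [← Units.val_mul, inv_mul_cancel, Units.val_one]
  have hL' : ((E * L * E⁻¹ : GL (Fin 4) F) : Matrix (Fin 4) (Fin 4) F) = s • 1 + N' := by
    rw [Units.val_mul, Units.val_mul, hLN, mul_add, add_mul, mul_smul_comm, mul_one, smul_mul_assoc, hEE]
  have hN'N' : N' * N' = d • 1 := by
    rw [hN']
    calc _ = (E : Matrix (Fin 4) (Fin 4) F) * (N * N) * ((E⁻¹ : GL (Fin 4) F) : Matrix (Fin 4) (Fin 4) F) := by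
          simp only [mul_assoc]; congr 2; rw [← mul_assoc, hEiE, one_mul]
      _ = d • 1 := by rw [hN, mul_smul_comm, mul_one, smul_mul_assoc, hEE]
  have htr' : N'.trace = 0 := by rw [hN', trace_mul_cycle, hEiE, one_mul, htr]
  set c := s * s - d with hc
  have hc0 : c ≠ 0 := fun h0 => by
    rw [h0, zero_pow two_ne_zero] at hdet
    have hu := (Matrix.isUnit_iff_isUnit_det _).1 ⟨L, rfl⟩
    exact hu.ne_zero hdet
  have hinv : ∀ (X : GL (Fin 4) F) (Y : Matrix (Fin 4) (Fin 4) F),
      (X : Matrix (Fin 4) (Fin 4) F) = s • 1 + Y → Y * Y = d • 1 →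
      ((X⁻¹ : GL (Fin 4) F) : Matrix (Fin 4) (Fin 4) F) = c⁻¹ • (s • 1 - Y) := by
    intro X Y hX hY
    have h1 : (c⁻¹ • (s • 1 - Y)) * (X : Matrix (Fin 4) (Fin 4) F) = 1 := by
      rw [hX, smul_mul_assoc, sub_mul, mul_add, mul_add, hY, smul_mul_assoc, one_mul, mul_smul_comm, mul_one,
        smul_mul_assoc, one_mul]
      rw [show s • s • (1 : Matrix (Fin 4) (Fin 4) F) + s • Y - (s • Y + d • 1) = c • 1 by rw [hc]; module,
        inv_smul_smul₀ hc0]
    calc _ = (c⁻¹ • (s • 1 - Y)) * (X : Matrix (Fin 4) (Fin 4) F) *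
        ((X⁻¹ : GL (Fin 4) F) : Matrix (Fin 4) (Fin 4) F) := by rw [h1, one_mul]
      _ = _ := by rw [mul_assoc, ← Units.val_mul, mul_inv_cancel, Units.val_one, mul_one]
  set P := L⁻¹ * (E * L * E⁻¹) with hP
  have hpen : IsPen q (m⁻¹ * (E * m)) (m⁻¹ * L⁻¹ * (E * L * E⁻¹) * m) := hL.div S.nd (hL.isometry_mul S.nd e)
  have hmem : m⁻¹ * (E * m) ∈ M := M.mul_mem (M.inv_mem hm) (M.mul_mem (S.isometry_mem he) hm)
  have hpen' : ((m⁻¹ * L⁻¹ * (E * L * E⁻¹) * m : GL (Fin 4) F) : Matrix (Fin 4) (Fin 4) F) =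
      ((m⁻¹ : GL (Fin 4) F) : Matrix (Fin 4) (Fin 4) F) * (P : Matrix (Fin 4) (Fin 4) F) *
        (m : Matrix (Fin 4) (Fin 4) F) := by
    rw [← Units.val_mul, ← Units.val_mul, hP]
    simp only [mul_assoc]
  set B := ((m⁻¹ * L⁻¹ * (E * L * E⁻¹) * m : GL (Fin 4) F) : Matrix (Fin 4) (Fin 4) F) with hB
  have hback : (P : Matrix (Fin 4) (Fin 4) F) = (m : Matrix (Fin 4) (Fin 4) F) * B *
      ((m⁻¹ : GL (Fin 4) F) : Matrix (Fin 4) (Fin 4) F) := by
    rw [hpen', ← mul_assoc, ← mul_assoc, ← Units.val_mul, mul_inv_cancel, Units.val_one, one_mul, mul_assoc,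
      ← Units.val_mul, mul_inv_cancel, Units.val_one, mul_one]
  have hmm : ((m⁻¹ : GL (Fin 4) F) : Matrix (Fin 4) (Fin 4) F) * (m : Matrix (Fin 4) (Fin 4) F) = 1 := by
    rw [← Units.val_mul, inv_mul_cancel, Units.val_one]
  have hmm' : (m : Matrix (Fin 4) (Fin 4) F) * ((m⁻¹ : GL (Fin 4) F) : Matrix (Fin 4) (Fin 4) F) = 1 := by
    rw [← Units.val_mul, mul_inv_cancel, Units.val_one]
  by_cases hsc : ∃ k : F, B = k • 1
  · obtain ⟨k, hk⟩ := hsc
    have h1 : (P : Matrix (Fin 4) (Fin 4) F) = k • 1 := by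
      rw [hback, hk, mul_smul_comm, mul_one, smul_mul_assoc, hmm']
    have h2 : s • 1 + N' = k • (s • 1 + N) := by
      rw [← hL', show E * L * E⁻¹ = L * P by rw [hP]; group, Units.val_mul, h1, mul_smul_comm, mul_one, hLN]
    have hk1 : k = 1 := by
      have h3 := congrArg Matrix.trace h2
      simp only [trace_add, trace_smul, trace_one, htr, htr', Fintype.card_fin, smul_eq_mul, add_zero,
        Nat.cast_ofNat] at h3
      exact mul_right_cancel₀ (mul_ne_zero hs h4) (by linear_combination -h3)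
    rw [hk1, one_smul, add_right_inj] at h2
    exact ⟨d + d, by rw [h2, hN, add_smul]⟩
  push Not at hsc
  obtain ⟨s₁, d₁, N₁, hB1, -, hN1, -, -, -, hdet1⟩ := S.normal hmem hpen hsc
  rw [← hB] at hB1 hdet1
  have hone : (s₁ * s₁ - d₁) ^ 2 = 1 := by
    rw [← hdet1, hpen', det_mul, det_mul, mul_right_comm, ← det_mul, hmm, det_one, one_mul, hP,
      show L⁻¹ * (E * L * E⁻¹) = L⁻¹ * E * L * E⁻¹ by group]
    simp only [Units.val_mul, det_mul]
    calc _ = (((L⁻¹ : GL (Fin 4) F) : Matrix (Fin 4) (Fin 4) F).det * (L : Matrix (Fin 4) (Fin 4) F).det) *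
          ((E : Matrix (Fin 4) (Fin 4) F).det * ((E⁻¹ : GL (Fin 4) F) : Matrix (Fin 4) (Fin 4) F).det) := by ring
      _ = 1 := by rw [← det_mul, ← det_mul, hEE, ← Units.val_mul, inv_mul_cancel, Units.val_one, det_one, one_mul]
  have hBB : B * B = (2 * s₁) • B + (d₁ - s₁ * s₁) • 1 := by
    rw [hB1, add_mul, mul_add, mul_add, hN1, smul_mul_assoc, one_mul, mul_smul_comm, mul_one, smul_mul_assoc,
      one_mul]
    module
  have hPP : (P : Matrix (Fin 4) (Fin 4) F) * P = (2 * s₁) • (P : Matrix (Fin 4) (Fin 4) F) + (d₁ - s₁ * s₁) • 1 := by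
    rw [hback]
    calc _ = (m : Matrix (Fin 4) (Fin 4) F) * (B * B) * ((m⁻¹ : GL (Fin 4) F) : Matrix (Fin 4) (Fin 4) F) := by
          simp only [mul_assoc]; congr 2; rw [← mul_assoc, hmm, one_mul]
      _ = _ := by rw [hBB, mul_add, add_mul, mul_smul_comm, mul_smul_comm, smul_mul_assoc, smul_mul_assoc, mul_one, hmm']
  have hPi : (P : Matrix (Fin 4) (Fin 4) F) =
      (2 * s₁) • 1 + (d₁ - s₁ * s₁) • ((P⁻¹ : GL (Fin 4) F) : Matrix (Fin 4) (Fin 4) F) := by
    calc (P : Matrix (Fin 4) (Fin 4) F) = (P : Matrix (Fin 4) (Fin 4) F) * P *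
          ((P⁻¹ : GL (Fin 4) F) : Matrix (Fin 4) (Fin 4) F) := by
          rw [mul_assoc, ← Units.val_mul, mul_inv_cancel, Units.val_one, mul_one]
      _ = _ := by rw [hPP, add_mul, smul_mul_assoc, smul_mul_assoc, one_mul, ← Units.val_mul, mul_inv_cancel, Units.val_one]
  have eP : (P : Matrix (Fin 4) (Fin 4) F) = c⁻¹ • ((s • 1 - N) * (s • 1 + N')) := by
    rw [hP, Units.val_mul, hinv L N hLN hN, hL', smul_mul_assoc]
  have ePi : ((P⁻¹ : GL (Fin 4) F) : Matrix (Fin 4) (Fin 4) F) = c⁻¹ • ((s • 1 - N') * (s • 1 + N)) := by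
    rw [hP, _root_.mul_inv_rev, inv_inv, Units.val_mul, hinv _ N' hL' hN'N', hLN, smul_mul_assoc]
  rw [eP, ePi] at hPi
  have h5 := congrArg (fun X => c • X) hPi
  simp only [smul_add, smul_inv_smul₀ hc0, smul_comm c (d₁ - s₁ * s₁), smul_smul] at h5
  have hmul : ∀ X Y : Matrix (Fin 4) (Fin 4) F,
      (s • 1 - X) * (s • 1 + Y) = (s * s) • 1 + s • Y - s • X - X * Y := fun X Y => by
    rw [sub_mul, mul_add, mul_add, smul_mul_assoc, one_mul, mul_smul_comm, mul_one, smul_mul_assoc, one_mul, smul_smul]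
    abel
  rw [hmul, hmul] at h5
  rcases mul_self_eq_one_iff.1 (show (d₁ - s₁ * s₁) * (d₁ - s₁ * s₁) = 1 by linear_combination hone) with hsg | hsg
  · -- the conjugate equals the map
    rw [hsg, one_mul, mul_inv_cancel₀ hc0, one_smul] at h5
    have h6 := congrArg Matrix.trace h5
    simp only [trace_add, trace_sub, trace_smul, trace_one, htr, htr', smul_eq_mul, trace_mul_comm N' N,
      Fintype.card_fin, Nat.cast_ofNat, mul_zero, add_zero, sub_zero] at h6
    have hτ : c * (2 * s₁) = 0 := mul_right_cancel₀ h4 (by linear_combination -h6)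
    rw [hτ, zero_smul, zero_add] at h5
    have hK : N * N' - N' * N = (2 * s) • (N' - N) := by linear_combination (norm := module) -h5
    have hSA' : IsSA q N' := fun x y => by
      rw [hN', ← mulVec_mulVec, ← mulVec_mulVec, ← mulVec_mulVec, ← mulVec_mulVec]
      show polar q (app e _) y = polar q x (app e _)
      conv_lhs => rw [← app_app_inv e y, polar_app, hSA]
      conv_rhs => rw [← app_app_inv e x, polar_app]
      rfl
    have hKx : ∀ x y, polar q x ((N' - N) *ᵥ y) = 0 := by
      intro x y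
      have h7 : polar q x ((N * N' - N' * N) *ᵥ y) = -polar q ((N * N' - N' * N) *ᵥ x) y := by
        simp only [sub_mulVec, ← mulVec_mulVec, polar_sub_left, polar_sub_right, hSA _ y, hSA' _ y, hSA' x, hSA x]
        ring
      rw [hK, smul_mulVec, smul_mulVec, polar_smul_right, polar_smul_left] at h7
      have h8 : polar q ((N' - N) *ᵥ x) y = polar q x ((N' - N) *ᵥ y) := by
        rw [sub_mulVec, sub_mulVec, polar_sub_left, polar_sub_right, hSA x y, hSA' x y]
      rw [h8, smul_eq_mul] at h7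
      exact (mul_eq_zero.1 (show (2 * 2 * s) * polar q x ((N' - N) *ᵥ y) = 0 by linear_combination h7)).resolve_left
        (mul_ne_zero (mul_ne_zero S.two S.two) hs)
    have h9 : N' - N = 0 := mat_eq_of_polar S.nd fun x y => by rw [hKx, zero_mulVec, polar_zero_right]
    exact ⟨d + d, by rw [sub_eq_zero.1 h9, hN, add_smul]⟩
  · rw [hsg, neg_one_mul, mul_neg, mul_inv_cancel₀ hc0, neg_one_smul] at h5
    exact ⟨2 * s * s - c * (2 * s₁), by linear_combination (norm := module) -h5⟩

/-- An Eichler group fixes a non-zero element of an invariant space of matrices. -/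
theorem exists_fixed (u : Fin 4 → F) (hu : q u = 0) (T : Submodule F (Matrix (Fin 4) (Fin 4) F)) (hT : T ≠ ⊥)
    (hinv : ∀ a, polar q u a = 0 → ∀ X ∈ T, ((eich q u a : GL (Fin 4) F) : Matrix (Fin 4) (Fin 4) F) * X *
      (((eich q u a : GL (Fin 4) F)⁻¹ : GL (Fin 4) F) : Matrix (Fin 4) (Fin 4) F) ∈ T) :
    ∃ X ∈ T, X ≠ 0 ∧ ∀ a x, polar q u a = 0 → X *ᵥ app (eich q u a) x = app (eich q u a) (X *ᵥ x) := by
  classical
  let K : AddSubgroup (Fin 4 → F) :=
    { carrier := {a | polar q u a = 0}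
      zero_mem' := polar_zero_right q u
      add_mem' := fun {a b} ha hb => by
        show polar q u (a + b) = 0
        rw [polar_add_right, (show polar q u a = 0 from ha), (show polar q u b = 0 from hb), add_zero]
      neg_mem' := fun {a} ha => by
        show polar q u (-a) = 0
        rw [polar_neg_right, (show polar q u a = 0 from ha), neg_zero] }
  let ρ : Multiplicative K →* GL (Fin 4) F :=
    { toFun := fun a => ((eich q u (Multiplicative.toAdd a).1 : O q) : GL (Fin 4) F)
      map_one' := by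
        have e : eich q u ((0 : F) • u) = (1 : O q) := eich_smul_self hu 0
        rw [zero_smul] at e
        show ((eich q u 0 : O q) : GL (Fin 4) F) = 1
        rw [e]; rfl
      map_mul' := fun a b => by
        show ((eich q u ((Multiplicative.toAdd a).1 + (Multiplicative.toAdd b).1) : O q) : GL (Fin 4) F) = _
        rw [← eich_add hu (Multiplicative.toAdd a).2 (Multiplicative.toAdd b).2]
        rfl }
  letI act : MulAction (Multiplicative K) T :=
    { smul := fun a X => ⟨(ρ a : Matrix (Fin 4) (Fin 4) F) * X.1 *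
        (((ρ a)⁻¹ : GL (Fin 4) F) : Matrix (Fin 4) (Fin 4) F), hinv _ (Multiplicative.toAdd a).2 _ X.2⟩
      one_smul := fun X => Subtype.ext (by
        show (ρ 1 : Matrix (Fin 4) (Fin 4) F) * X.1 * (((ρ 1)⁻¹ : GL (Fin 4) F) : Matrix (Fin 4) (Fin 4) F) = X.1
        rw [map_one]; simp)
      mul_smul := fun a b X => Subtype.ext (by
        show (ρ (a * b) : Matrix (Fin 4) (Fin 4) F) * X.1 * (((ρ (a * b))⁻¹ : GL (Fin 4) F) : Matrix (Fin 4) (Fin 4) F) =
          (ρ a : Matrix (Fin 4) (Fin 4) F) * ((ρ b : Matrix (Fin 4) (Fin 4) F) * X.1 *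
            (((ρ b)⁻¹ : GL (Fin 4) F) : Matrix (Fin 4) (Fin 4) F)) *
              (((ρ a)⁻¹ : GL (Fin 4) F) : Matrix (Fin 4) (Fin 4) F)
        rw [map_mul, _root_.mul_inv_rev, Units.val_mul, Units.val_mul]
        simp only [mul_assoc]) }
  obtain ⟨n, hp, hn⟩ := FiniteField.card F (ringChar F)
  haveI : Fact (ringChar F).Prime := ⟨hp⟩
  have hK : IsPGroup (ringChar F) (Multiplicative K) := fun a => by
    refine ⟨1, ?_⟩
    rw [pow_one, ← ofAdd_toAdd a, ← ofAdd_nsmul, ← ofAdd_zero]
    congr 1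
    refine Subtype.ext ?_
    show (ringChar F) • (Multiplicative.toAdd a).1 = 0
    funext i
    show (ringChar F) • (Multiplicative.toAdd a).1 i = 0
    rw [nsmul_eq_mul, ringChar.Nat.cast_ringChar, zero_mul]
  have hdvd : ringChar F ∣ Nat.card T := by
    rw [Nat.card_eq_fintype_card, Module.card_eq_pow_finrank (K := F), hn, ← pow_mul]
    refine dvd_pow_self _ (mul_ne_zero (PNat.ne_zero n) fun h0 => hT ?_)
    exact Submodule.finrank_eq_zero.1 h0
  have h0 : (0 : T) ∈ MulAction.fixedPoints (Multiplicative K) T := fun a => Subtype.ext (by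
    show (ρ a : Matrix (Fin 4) (Fin 4) F) * 0 * _ = 0
    rw [mul_zero, zero_mul])
  obtain ⟨X, hX, hX0⟩ := hK.exists_fixed_point_of_prime_dvd_card_of_fixed_point T hdvd h0
  refine ⟨X.1, X.2, fun h => hX0 (Subtype.ext h.symm), fun a x ha => ?_⟩
  have h1 := congrArg Subtype.val (hX (Multiplicative.ofAdd ⟨a, ha⟩))
  change ((eich q u a : GL (Fin 4) F) : Matrix (Fin 4) (Fin 4) F) * X.1 *
    (((eich q u a : GL (Fin 4) F)⁻¹ : GL (Fin 4) F) : Matrix (Fin 4) (Fin 4) F) = X.1 at h1
  conv_lhs => rw [← h1]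
  show _ *ᵥ (((eich q u a : GL (Fin 4) F) : Matrix (Fin 4) (Fin 4) F) *ᵥ x) = _
  rw [← mulVec_mulVec, gl_inv_mulVec_mulVec, ← mulVec_mulVec]
  rfl

/-- The case of a pencil with non-zero trace. -/
theorem Setting.false_of_trace (S : Setting q M) {m L : GL (Fin 4) F} (hm : m ∈ M) (hL : IsPen q m L) {s d : F}
    {N : Matrix (Fin 4) (Fin 4) F} (hs : s ≠ 0) (h4 : (4 : F) ≠ 0)
    (hLN : (L : Matrix (Fin 4) (Fin 4) F) = s • 1 + N) (hN : N * N = d • 1) (hSA : IsSA q N)
    (hns : ∀ k : F, N ≠ k • 1) (htr : N.trace = 0)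
    (hdet : (L : Matrix (Fin 4) (Fin 4) F).det = (s * s - d) ^ 2) : False := by
  let cj : O q → Matrix (Fin 4) (Fin 4) F → Matrix (Fin 4) (Fin 4) F := fun e X =>
    ((e : GL (Fin 4) F) : Matrix (Fin 4) (Fin 4) F) * X *
      (((e : GL (Fin 4) F)⁻¹ : GL (Fin 4) F) : Matrix (Fin 4) (Fin 4) F)
  have hcj : ∀ e f X, cj e (cj f X) = cj (e * f) X := fun e f X => by
    simp only [cj, Subgroup.coe_mul, _root_.mul_inv_rev, Units.val_mul, mul_assoc]
  have hcm : ∀ e X Y, cj e (X * Y) = cj e X * cj e Y := fun e X Y => by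
    simp only [cj, mul_assoc]
    rw [← mul_assoc (((e : GL (Fin 4) F)⁻¹ : GL (Fin 4) F) : Matrix (Fin 4) (Fin 4) F) ((e : GL (Fin 4) F) : Matrix (Fin 4) (Fin 4) F),
      ← Units.val_mul, inv_mul_cancel, Units.val_one, one_mul]
  set G : Set (Matrix (Fin 4) (Fin 4) F) := {X | ∃ e : O q, detHom q e = 1 ∧ X = cj e N} with hG
  have hpair : ∀ X ∈ G, ∀ Y ∈ G, ∃ k : F, X * Y + Y * X = k • 1 := by
    rintro _ ⟨e, he, rfl⟩ _ ⟨f, hf, rfl⟩
    obtain ⟨k, hk⟩ := S.anticomm hm hL hs h4 hLN hN hSA htr hdet (e := e⁻¹ * f) (by rw [map_mul, map_inv, he, hf]; simp)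
    refine ⟨k, ?_⟩
    have h1 : N * cj (e⁻¹ * f) N + cj (e⁻¹ * f) N * N = k • 1 := hk
    have h2 := congrArg (cj e) h1
    rw [show cj e (N * cj (e⁻¹ * f) N + cj (e⁻¹ * f) N * N) =
        cj e (N * cj (e⁻¹ * f) N) + cj e (cj (e⁻¹ * f) N * N) by simp [cj, mul_add, add_mul],
      hcm e N (cj (e⁻¹ * f) N), hcm e (cj (e⁻¹ * f) N) N, hcj e (e⁻¹ * f) N, mul_inv_cancel_left] at h2
    refine h2.trans ?_
    simp only [cj, mul_smul_comm, mul_one, smul_mul_assoc, ← Units.val_mul, mul_inv_cancel, Units.val_one]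
  set T := Submodule.span F G with hT
  have hbil : ∀ X ∈ T, ∀ Y ∈ T, ∃ k : F, X * Y + Y * X = k • 1 := by
    intro X hX Y hY
    induction hX using Submodule.span_induction with
    | mem X hX =>
      induction hY using Submodule.span_induction with
      | mem Y hY => exact hpair X hX Y hY
      | zero => exact ⟨0, by simp⟩
      | add Y Z _ _ h h' =>
        obtain ⟨k, hk⟩ := h
        obtain ⟨k', hk'⟩ := h'
        exact ⟨k + k', by rw [add_smul, ← hk, ← hk']; simp only [mul_add, add_mul]; abel⟩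
      | smul r Y _ h =>
        obtain ⟨k, hk⟩ := h
        exact ⟨r * k, by rw [mul_smul, ← hk, smul_add, mul_smul_comm, smul_mul_assoc]⟩
    | zero => exact ⟨0, by simp⟩
    | add X Z _ _ h h' =>
      obtain ⟨k, hk⟩ := h
      obtain ⟨k', hk'⟩ := h'
      exact ⟨k + k', by rw [add_smul, ← hk, ← hk']; simp only [mul_add, add_mul]; abel⟩
    | smul r X _ h =>
      obtain ⟨k, hk⟩ := h
      exact ⟨r * k, by rw [mul_smul, ← hk, smul_add, mul_smul_comm, smul_mul_assoc]⟩
  have hNG : N ∈ T := Submodule.subset_span ⟨1, map_one _, by simp [cj]⟩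
  have hTne : T ≠ ⊥ := fun h0 => hns 0 (by rw [h0, Submodule.mem_bot] at hNG; rw [hNG, zero_smul])
  have hinv : ∀ e : O q, detHom q e = 1 → ∀ X ∈ T, cj e X ∈ T := by
    intro e he X hX
    induction hX using Submodule.span_induction with
    | mem X hX =>
      obtain ⟨f, hf, rfl⟩ := hX
      exact Submodule.subset_span ⟨e * f, by rw [map_mul, he, hf, one_mul], hcj e f N⟩
    | zero => simp [cj]
    | add X Y _ _ h h' => simpa [cj, mul_add, add_mul] using T.add_mem h h'
    | smul r X _ h => simpa [cj] using T.smul_mem r h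
  have hR : ∀ u, u ≠ 0 → q u = 0 → rk q u ∈ T := by
    intro u hu0 hu
    obtain ⟨X, hXT, hX0, hXc⟩ := exists_fixed u hu T hTne fun a ha Y hY => hinv _ (detHom_eich S.nd S.two hu ha) Y hY
    have hXsa : IsSA q X := by
      clear hXc hX0
      induction hXT using Submodule.span_induction with
      | mem X hX =>
        obtain ⟨e, -, rfl⟩ := hX
        intro x y
        simp only [cj, ← mulVec_mulVec]
        show polar q (app e _) y = polar q x (app e _)
        conv_lhs => rw [← app_app_inv e y, polar_app, hSA]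
        conv_rhs => rw [← app_app_inv e x, polar_app]
        rfl
      | zero => exact fun x y => by simp
      | add X Y _ _ h h' =>
        intro x y
        rw [add_mulVec, add_mulVec, polar_add_left, polar_add_right, h, h']
      | smul r X _ h =>
        intro x y
        rw [smul_mulVec, smul_mulVec, polar_smul_left, polar_smul_right, h]
    obtain ⟨α, β, hαβ⟩ := eq_of_commute_eich S.nd S.two hXsa hu0 hu hXc
    have hXe : X = α • 1 + β • rk q u := Matrix.ext_of_mulVec_single fun i => by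
      rw [hαβ, add_mulVec, smul_mulVec, one_mulVec, smul_mulVec, rk_mulVec, smul_smul]
    obtain ⟨k, hk⟩ := hbil X hXT X hXT
    have hb0 : β ≠ 0 := by
      intro hb
      rw [hb, zero_smul, add_zero] at hXe
      have hα : α ≠ 0 := fun h => hX0 (by rw [hXe, h, zero_smul])
      obtain ⟨k', hk'⟩ := hbil X hXT N hNG
      rw [hXe, smul_mul_assoc, one_mul, mul_smul_comm, mul_one, ← add_smul] at hk'
      refine hns ((α + α)⁻¹ * k') ?_
      rw [mul_smul, ← hk', inv_smul_smul₀]
      rw [← two_mul]; exact mul_ne_zero S.two hα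
    have hα : α = 0 := by
      by_contra hα
      have h1 := congrArg (fun Y => Y *ᵥ u) hk
      obtain ⟨v, hv, huv⟩ := exists_partner_top S.nd hu0 hu
      have hvu : polar q v u = 1 := by rw [polar_comm, huv]
      have h2 := congrArg (fun Y => Y *ᵥ v) hk
      have huu : polar q u u = 0 := by rw [polar_self', hu, mul_zero]
      have hXu : X *ᵥ u = α • u := by rw [hαβ, huu, mul_zero, zero_smul, add_zero]
      have hXv : X *ᵥ v = α • v + β • u := by rw [hαβ, hvu, mul_one]
      simp only [add_mulVec, ← mulVec_mulVec, hXu, hXv, mulVec_smul, mulVec_add, smul_mulVec, one_mulVec] at h1 h2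
      have h3 : k = α * α + α * α := smul_left_injective F hu0 (by linear_combination (norm := module) -h1)
      rw [h3] at h2
      have h4 : (2 * 2 * α * β) • u = 0 := by linear_combination (norm := module) h2
      rw [smul_eq_zero] at h4
      exact hu0 (h4.resolve_left (mul_ne_zero (mul_ne_zero (mul_ne_zero S.two S.two) hα) hb0))
    rw [hα, zero_smul, zero_add] at hXe
    exact (Submodule.smul_mem_iff T hb0).1 (hXe ▸ hXT)
  obtain ⟨u, hu0, hu⟩ := exists_singular_ne_zero S.nd
  obtain ⟨v, hv, huv⟩ := exists_partner_top S.nd hu0 hu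
  have hv0 : v ≠ 0 := fun h => by rw [h, polar_zero_right] at huv; exact zero_ne_one huv
  obtain ⟨k, hk⟩ := hbil _ (hR u hu0 hu) _ (hR v hv0 hv)
  exact rk_anticomm_ne S.nd hu0 hu hv huv k hk

/-- A self-adjoint map whose form vanishes on all singular vectors is scalar. -/
theorem scalar_of_singular (hq : q.polarBilin.Nondegenerate) (h2 : (2 : F) ≠ 0) {A : Matrix (Fin 4) (Fin 4) F}
    (hA : IsSA q A) (h : ∀ u, q u = 0 → polar q u (A *ᵥ u) = 0) : ∃ k : F, A = k • 1 := by
  obtain ⟨u, hu0, hu⟩ := exists_singular_ne_zero hq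
  obtain ⟨v, hv, huv⟩ := exists_partner_top hq hu0 hu
  have hvu : polar q v u = 1 := by rw [polar_comm, huv]
  obtain ⟨hY, hYn⟩ := perp_plane hq hu hv huv
  obtain ⟨a, ha, hqa⟩ := exists_aniso_mem hq hYn (fun h0 => by rw [h0, finrank_bot] at hY; omega)
  obtain ⟨b, hb', hqb⟩ := exists_aniso_mem hq (inf_orth_nondegenerate h2 hYn ha hqa) (fun h0 => by
    have h1 := OrthTools.finrank_inf_orth hq (OrthTools.orth q (Submodule.span F ({u, v} : Set (Fin 4 → F)))) a
    rw [h0, finrank_bot] at h1; omega)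
  obtain ⟨hb, hab⟩ := OrthTools.mem_inf_orth hb'
  rw [OrthEich.mem_orth_pair] at ha hb
  set B : (Fin 4 → F) → (Fin 4 → F) → F := fun x y => polar q x (A *ᵥ y) with hB
  have hBs : ∀ x y, B x y = B y x := fun x y => by simp only [hB]; rw [← hA, polar_comm]
  have hBl : ∀ x y z, B (x + y) z = B x z + B y z := fun x y z => polar_add_left q _ _ _
  have hBm : ∀ (r : F) x z, B (r • x) z = r * B x z := fun r x z => by simp only [hB]; rw [polar_smul_left, smul_eq_mul]
  have hBr : ∀ x y z, B z (x + y) = B z x + B z y := fun x y z => by rw [hBs, hBl, hBs, hBs y]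
  have hBk : ∀ (r : F) x z, B z (r • x) = r * B z x := fun r x z => by rw [hBs, hBm, hBs]
  have hz : ∀ c, polar q u c = 0 → polar q v c = 0 →
      B c c + 2 * B v c - 2 * q c * B u v - 2 * q c * B u c = 0 := by
    intro c hcu hcv
    have hsing : q (v + c + (-q c) • u) = 0 := by
      rw [QuadraticMap.map_add ⇑q, QuadraticMap.map_add ⇑q v, QuadraticMap.map_smul, hu, hv, hcv,
        polar_add_left, polar_smul_right, polar_smul_right, hvu, polar_comm (f := ⇑q) c u, hcu]
      simp
    have h1 : B _ _ = 0 := h _ hsing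
    simp only [hBl, hBr, hBm, hBk, show B v v = 0 from h v hv, show B u u = 0 from h u hu] at h1
    linear_combination h1 - hBs c v + q c * hBs v u + q c * hBs c u
  have hodd : ∀ c, polar q u c = 0 → polar q v c = 0 →
      B v c = q c * B u c ∧ B c c = 2 * q c * B u v := by
    intro c hcu hcv
    have h1 := hz c hcu hcv
    have h3 := hz ((-1 : F) • c) (by rw [polar_smul_right, hcu, smul_zero]) (by rw [polar_smul_right, hcv, smul_zero])
    simp only [hBm, hBk, QuadraticMap.map_smul, smul_eq_mul] at h3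
    exact ⟨mul_left_cancel₀ (mul_ne_zero h2 h2) (by linear_combination h1 - h3),
      mul_left_cancel₀ h2 (by linear_combination h1 + h3)⟩
  obtain ⟨hva, haa⟩ := hodd a ha.1 ha.2
  obtain ⟨hvb, hbb⟩ := hodd b hb.1 hb.2
  have hqab : q (a + b) = q a + q b := by rw [QuadraticMap.map_add ⇑q, hab, add_zero]
  obtain ⟨hvp, hpp⟩ := hodd (a + b) (by rw [polar_add_right, ha.1, hb.1, add_zero])
    (by rw [polar_add_right, ha.2, hb.2, add_zero])
  obtain ⟨hvm, -⟩ := hodd (a + (-1 : F) • b) (by rw [polar_add_right, polar_smul_right, ha.1, hb.1, smul_zero, add_zero])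
    (by rw [polar_add_right, polar_smul_right, ha.2, hb.2, smul_zero, add_zero])
  rw [hqab, hBr, hBr] at hvp
  rw [hqab] at hpp
  simp only [hBl, hBr] at hpp
  rw [QuadraticMap.map_add ⇑q, QuadraticMap.map_smul, polar_smul_right, hab, hBr, hBr, hBk, hBk] at hvm
  simp only [smul_eq_mul] at hvm
  have hua : B u a = 0 := by
    refine mul_left_cancel₀ (mul_ne_zero h2 hqb) ?_
    linear_combination 2 * hva - hvp - hvm
  have hub : B u b = 0 := by
    refine mul_left_cancel₀ (mul_ne_zero h2 hqa) ?_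
    linear_combination 2 * hvb - hvp + hvm
  have hva' : B v a = 0 := by rw [hva, hua, mul_zero]
  have hvb' : B v b = 0 := by rw [hvb, hub, mul_zero]
  have hab' : B a b = 0 := mul_left_cancel₀ h2 (by linear_combination hpp - haa - hbb + hBs a b)
  set k := B u v with hk
  set e : Fin 4 → Fin 4 → F := ![u + v, u + (-1 : F) • v, a, b] with he
  have huu : polar q u u = 0 := by rw [polar_self', hu, mul_zero]
  have hvv : polar q v v = 0 := by rw [polar_self', hv, mul_zero]
  have hau : polar q a u = 0 := by rw [polar_comm, ha.1]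
  have hav : polar q a v = 0 := by rw [polar_comm, ha.2]
  have hbu : polar q b u = 0 := by rw [polar_comm, hb.1]
  have hbv : polar q b v = 0 := by rw [polar_comm, hb.2]
  have hba : polar q b a = 0 := by rw [polar_comm, hab]
  have hor : ∀ i j : Fin 4, i ≠ j → polar q (e i) (e j) = 0 := by
    intro i j hij
    fin_cases i <;> fin_cases j <;>
      first
        | exact absurd rfl hij
        | simp [he, polar_add_left, polar_add_right, polar_smul_left, polar_smul_right, huu, hvv, huv, hvu, hau, hav,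
            hbu, hbv, hba, hab, ha.1, ha.2, hb.1, hb.2]
  have hqe : ∀ i, q (e i) ≠ 0 := by
    intro i
    fin_cases i <;> simp [he, QuadraticMap.map_add ⇑q, QuadraticMap.map_smul, polar_smul_right, hu, hv, huv, hqa, hqb]
  have hBnl : ∀ x z, B (-x) z = -B x z := fun x z => by rw [← neg_one_smul F x, hBm, neg_one_mul]
  have hBnr : ∀ x z, B z (-x) = -B z x := fun x z => by rw [← neg_one_smul F x, hBk, neg_one_mul]
  have hBe : ∀ i j, B (e i) (e j) = k * polar q (e i) (e j) := by
    intro i j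
    fin_cases i <;> fin_cases j <;>
      simp [he, hBnl, hBnr, polar_neg_left, polar_neg_right, QuadraticMap.map_add ⇑q, QuadraticMap.map_neg, hu, hv, hBl, hBr, hBm, hBk, polar_add_left, polar_add_right, polar_smul_left, polar_smul_right, huu, hvv, huv,
        hvu, hau, hav, hbu, hbv, hba, hab, ha.1, ha.2, hb.1, hb.2, show B u u = 0 from h u hu,
        show B v v = 0 from h v hv, hBs v u, ← hk, hua, hub, hva', hvb', hBs a u, hBs a v, hBs b u, hBs b v, hab',
        hBs b a, haa, hbb, polar_self', hqa, hqb] <;> ring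
  have hcol : ∀ j, A *ᵥ e j = k • e j := fun j => by
    rw [expand hq h2 hor hqe (A *ᵥ e j)]
    conv_rhs => rw [expand hq h2 hor hqe (k • e j)]
    refine Finset.sum_congr rfl fun i _ => ?_
    rw [hA, polar_smul_left, smul_eq_mul, show polar q (e j) (A *ᵥ e i) = B (e j) (e i) from rfl, hBe]
  refine ⟨k, Matrix.ext_of_mulVec_single fun i => ?_⟩
  rw [smul_mulVec, one_mulVec, expand hq h2 hor hqe (Pi.single i 1), mulVec_sum, Finset.smul_sum]
  exact Finset.sum_congr rfl fun l _ => by rw [mulVec_smul, hcol, smul_comm]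

/-- The case of trace-free pencils. -/
theorem Setting.false_of_trace_zero (S : Setting q M) (h4 : (4 : F) ≠ 0)
    (hall : ∀ {m L : GL (Fin 4) F}, m ∈ M → IsPen q m L → (∀ k : F, (L : Matrix (Fin 4) (Fin 4) F) ≠ k • 1) →
      (L : Matrix (Fin 4) (Fin 4) F).trace = 0 ∧ ∃ d : F, d ≠ 0 ∧
        (L : Matrix (Fin 4) (Fin 4) F) * L = d • 1)
    {g L : GL (Fin 4) F} (hg : g ∈ M) (hL : IsPen q g L) (hns : ∀ k : F, (L : Matrix (Fin 4) (Fin 4) F) ≠ k • 1) :
    False := by
  classical
  set A := (L : Matrix (Fin 4) (Fin 4) F) with hA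
  obtain ⟨-, d, hd, hAA⟩ := hall hg hL hns
  have hSA : IsSA q A := hL.isSA S.nd
  obtain ⟨u, hu, huA⟩ : ∃ u, q u = 0 ∧ polar q u (A *ᵥ u) ≠ 0 := by
    by_contra! h
    obtain ⟨k, hk⟩ := scalar_of_singular S.nd S.two hSA h
    exact hns k hk
  have hu0 : u ≠ 0 := fun h => huA (by rw [h, polar_zero_left])
  obtain ⟨v, hv, huv⟩ := exists_partner_top S.nd hu0 hu
  obtain ⟨hY, hYn⟩ := perp_plane S.nd hu hv huv
  set Y := OrthTools.orth q (Submodule.span F ({u, v} : Set (Fin 4 → F))) with hYdef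
  have hmemY : ∀ a : Y, polar q u (a : Fin 4 → F) = 0 := fun a => (OrthEich.mem_orth_pair.1 a.2).1
  let E : Y → GL (Fin 4) F := fun a => ((eich q u (a : Fin 4 → F) : O q) : GL (Fin 4) F)
  have hEM : ∀ a, E a ∈ M := fun a => S.isometry_mem (detHom_eich S.nd S.two hu (hmemY a))
  let La : Y → GL (Fin 4) F := fun a => E a * L * (E a)⁻¹
  have hpenA : ∀ a, IsPen q (E a * g) (La a) := fun a => hL.isometry_mul S.nd _
  have hgM : ∀ a, E a * g ∈ M := fun a => M.mul_mem (hEM a) hg
  have hmm : ∀ X : GL (Fin 4) F, (X : Matrix (Fin 4) (Fin 4) F) * ((X⁻¹ : GL (Fin 4) F) : Matrix (Fin 4) (Fin 4) F) = 1 :=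
    fun X => by rw [← Units.val_mul, mul_inv_cancel, Units.val_one]
  have hmm' : ∀ X : GL (Fin 4) F, ((X⁻¹ : GL (Fin 4) F) : Matrix (Fin 4) (Fin 4) F) * (X : Matrix (Fin 4) (Fin 4) F) = 1 :=
    fun X => by rw [← Units.val_mul, inv_mul_cancel, Units.val_one]
  have hsq : ∀ a, (La a : Matrix (Fin 4) (Fin 4) F) * La a = d • 1 := fun a => by
    rw [← Units.val_mul, show La a * La a = E a * (L * L) * (E a)⁻¹ by simp only [La]; group, Units.val_mul,
      Units.val_mul, Units.val_mul, ← hA, hAA, mul_smul_comm, mul_one, smul_mul_assoc, hmm]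
  have hnsa : ∀ a (k : F), (La a : Matrix (Fin 4) (Fin 4) F) ≠ k • 1 := fun a k h => hns k (by
    have : L = (E a)⁻¹ * La a * E a := by simp only [La]; group
    rw [hA, this, Units.val_mul, Units.val_mul, h, mul_smul_comm, mul_one, smul_mul_assoc, hmm'])
  have htra : ∀ a, (La a : Matrix (Fin 4) (Fin 4) F).trace = 0 := fun a => (hall (hgM a) (hpenA a) (hnsa a)).1
  -- distinct lines
  have hline : ∀ a b (k : F), (La a : Matrix (Fin 4) (Fin 4) F) = k • (La b : Matrix (Fin 4) (Fin 4) F) → a = b := by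
    intro a b k hk
    have hk2 : k * k = 1 := by
      have h1 := hsq a
      rw [hk, smul_mul_smul_comm, hsq b, smul_smul] at h1
      have h2 := congrFun (congrFun h1 0) 0
      simp only [Matrix.smul_apply, one_apply_eq, smul_eq_mul, mul_one] at h2
      exact mul_right_cancel₀ hd (by rw [one_mul]; exact h2)
    by_contra hab
    set c := a - b with hc
    have hc0 : (c : Fin 4 → F) ≠ 0 := fun h => hab (sub_eq_zero.1 (Subtype.ext h))
    have hEab : E a = E b * E c := by
      simp only [E, ← Subgroup.coe_mul]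
      rw [eich_add hu (hmemY b) (hmemY c), ← Submodule.coe_add, hc, add_sub_cancel]
    have hcA : (E c : Matrix (Fin 4) (Fin 4) F) * A = k • (A * (E c : Matrix (Fin 4) (Fin 4) F)) := by
      have h1 : E c * L = (E b)⁻¹ * La a * E b * E c := by simp only [La, hEab]; group
      have h2 : (E b)⁻¹ * La b * E b = L := by simp only [La]; group
      rw [hA, ← Units.val_mul, h1, Units.val_mul, Units.val_mul, Units.val_mul, hk, mul_smul_comm, smul_mul_assoc,
        smul_mul_assoc, ← Units.val_mul, ← Units.val_mul, h2]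
    have hu1 : app (eich q u (c : Fin 4 → F)) u = u := by
      rw [app_eich hu (hmemY c), polar_self', hu, hmemY c]; simp
    have h3 := congrArg (fun T => T *ᵥ u) hcA
    rw [← mulVec_mulVec, smul_mulVec, ← mulVec_mulVec,
      show (E c : Matrix (Fin 4) (Fin 4) F) *ᵥ u = u from hu1,
      show (E c : Matrix (Fin 4) (Fin 4) F) *ᵥ (A *ᵥ u) = app (eich q u (c : Fin 4 → F)) (A *ᵥ u) from rfl,
      app_eich hu (hmemY c)] at h3
    have hAu : polar q (A *ᵥ u) u ≠ 0 := by rwa [polar_comm]
    have h5 := congrArg (fun z => polar q u z) h3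
    simp only [polar_add_right, polar_smul_right, hmemY c, polar_self' (Q := q) u, hu, smul_eq_mul, mul_zero,
      add_zero] at h5
    have hk1 : k = 1 := mul_right_cancel₀ huA (by rw [one_mul]; exact h5.symm)
    rw [hk1, one_smul, add_assoc, add_eq_left] at h3
    obtain ⟨y, hy, hcy⟩ := hYn c c.2 hc0
    rw [OrthEich.mem_orth_pair] at hy
    have h6 := congrArg (fun z => polar q y z) h3
    simp only [polar_add_right, polar_smul_right, polar_comm (f := ⇑q) y u, hy.1, polar_zero_right, smul_eq_mul,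
      mul_zero, add_zero, polar_comm (f := ⇑q) y (c : Fin 4 → F)] at h6
    exact mul_ne_zero hAu hcy h6
  -- orthogonal for the trace form
  have htrace : ∀ {m K : GL (Fin 4) F}, m ∈ M → IsPen q m K → ∀ a,
      (∃ k : F, (K : Matrix (Fin 4) (Fin 4) F) = k • (La a : Matrix (Fin 4) (Fin 4) F)) ∨
        ((La a : Matrix (Fin 4) (Fin 4) F) * (K : Matrix (Fin 4) (Fin 4) F)).trace = 0 := by
    intro m K hm hK a
    have hpen := (hpenA a).div S.nd hK
    set P := (E a * g)⁻¹ * (La a)⁻¹ * K * (E a * g) with hP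
    have hinv : (((La a)⁻¹ : GL (Fin 4) F) : Matrix (Fin 4) (Fin 4) F) = d⁻¹ • (La a : Matrix (Fin 4) (Fin 4) F) := by
      calc _ = (d⁻¹ • ((La a : Matrix (Fin 4) (Fin 4) F) * La a)) * (((La a)⁻¹ : GL (Fin 4) F) : Matrix (Fin 4) (Fin 4) F) := by
            rw [hsq, inv_smul_smul₀ hd, one_mul]
        _ = _ := by rw [smul_mul_assoc, mul_assoc, hmm, mul_one]
    by_cases hs : ∃ k : F, (P : Matrix (Fin 4) (Fin 4) F) = k • 1
    · obtain ⟨k, hk⟩ := hs
      left
      refine ⟨k, ?_⟩
      have : K = La a * ((E a * g) * P * (E a * g)⁻¹) := by rw [hP]; group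
      rw [this, Units.val_mul (La a), Units.val_mul (E a * g * P), Units.val_mul (E a * g) P, hk, mul_smul_comm, mul_one, smul_mul_assoc,
        hmm, mul_smul_comm, mul_one]
    · push Not at hs
      right
      have h1 := (hall (M.mul_mem (M.inv_mem (hgM a)) hm) hpen hs).1
      rw [hP, mul_assoc ((E a * g)⁻¹) ((La a)⁻¹) K, Units.val_mul, Units.val_mul, trace_conj, Units.val_mul, hinv,
        smul_mul_assoc, trace_smul, smul_eq_zero] at h1
      exact h1.resolve_left (inv_ne_zero hd)
  have horth : ∀ a b, a ≠ b → ((La a : Matrix (Fin 4) (Fin 4) F) * (La b : Matrix (Fin 4) (Fin 4) F)).trace = 0 := by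
    intro a b hab
    rcases htrace (hgM b) (hpenA b) a with ⟨k, hk⟩ | h
    · exact absurd (hline b a k hk).symm hab
    · exact h
  let fam : Option Y → Matrix (Fin 4) (Fin 4) F := fun o => o.elim 1 fun a => (La a : Matrix (Fin 4) (Fin 4) F)
  have hfamtr : ∀ o o', o ≠ o' → (fam o * fam o').trace = 0 := by
    rintro (_ | a) (_ | b) h
    · exact absurd rfl h
    · simpa [fam] using htra b
    · simpa [fam] using htra a
    · exact horth a b fun e => h (by rw [e])
  have hfamself : ∀ o, (fam o * fam o).trace ≠ 0 := by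
    rintro (_ | a)
    · simpa [fam] using h4
    · simp only [fam, Option.elim_some, hsq, trace_smul, trace_one, Fintype.card_fin, Nat.cast_ofNat, smul_eq_mul]
      exact mul_ne_zero hd h4
  have hfamsa : ∀ o, IsSA q (fam o) := by
    rintro (_ | a)
    · exact fun x y => by simp [fam]
    · exact (hpenA a).isSA S.nd
  have hsum : ∀ (c : Option Y → F) o, (fam o * ∑ i, c i • fam i).trace = c o * (fam o * fam o).trace := by
    intro c o
    rw [Finset.mul_sum, trace_sum, Finset.sum_eq_single o]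
    · rw [mul_smul_comm, trace_smul, smul_eq_mul]
    · intro i _ hi
      rw [mul_smul_comm, trace_smul, hfamtr o i (Ne.symm hi), smul_zero]
    · simp
  -- coordinates of self-adjoint maps
  let I := {p : Fin 4 × Fin 4 // p.1 ≤ p.2}
  let Φ : Matrix (Fin 4) (Fin 4) F →ₗ[F] (I → F) :=
    { toFun := fun X p => polar q (Pi.single p.1.1 1) (X *ᵥ Pi.single p.1.2 1)
      map_add' := fun X Z => funext fun p => by rw [add_mulVec, polar_add_right]; rfl
      map_smul' := fun r X => funext fun p => by rw [smul_mulVec, polar_smul_right]; rfl }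
  have hΦ : ∀ X, IsSA q X → Φ X = 0 → X = 0 := by
    intro X hX h
    refine Matrix.ext_of_mulVec_single fun j => eq_of_polar S.nd fun x => ?_
    rw [zero_mulVec, polar_zero_right, pi_eq_sum_univ' x, ← polarBilin_apply_apply, map_sum, LinearMap.sum_apply,
      Finset.sum_eq_zero]
    intro i _
    rw [map_smul, LinearMap.smul_apply, polarBilin_apply_apply]
    rcases le_total i j with hij | hij
    · have h1 : polar q (Pi.single i 1) (X *ᵥ Pi.single j 1) = 0 := congrFun h ⟨(i, j), hij⟩
      rw [h1, smul_zero]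
    · have h1 : polar q (Pi.single j 1) (X *ᵥ Pi.single i 1) = 0 := congrFun h ⟨(j, i), hij⟩
      rw [← hX, polar_comm] at h1
      rw [h1, smul_zero]
  have hsaSum : ∀ c : Option Y → F, IsSA q (∑ i, c i • fam i) := fun c x y => by
    rw [sum_mulVec, sum_mulVec, ← polarBilin_apply_apply, ← polarBilin_apply_apply, map_sum, map_sum,
      LinearMap.sum_apply]
    refine Finset.sum_congr rfl fun i _ => ?_
    rw [polarBilin_apply_apply, polarBilin_apply_apply, smul_mulVec, smul_mulVec, polar_smul_left, polar_smul_right,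
      hfamsa i x y]
  have hli : LinearIndependent F (fun o => Φ (fam o)) := by
    refine Fintype.linearIndependent_iff.2 fun c hc o => ?_
    rw [← show Φ (∑ i, c i • fam i) = ∑ i, c i • Φ (fam i) by simp [map_sum, map_smul]] at hc
    have h1 := hsum c o
    rw [hΦ _ (hsaSum c) hc, mul_zero, trace_zero, eq_comm] at h1
    exact (mul_eq_zero.1 h1).resolve_right (hfamself o)
  have hle := hli.fintype_card_le_finrank
  have hI : Fintype.card I = 10 := by simp only [I]; decide
  have hYc : Fintype.card Y = Fintype.card F ^ 2 := by rw [Module.card_eq_pow_finrank (K := F), hY]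
  rw [Fintype.card_option, Module.finrank_fintype_fun_eq_card, hI, hYc] at hle
  have hF3 : Fintype.card F = 3 := by
    have h1 : Fintype.card F ≤ 3 := by nlinarith
    have h3 := FiniteField.odd_card_of_char_ne_two (F := F) (fun h => by
      have : CharP F 2 := ringChar.of_eq h
      exact S.two CharTwo.two_eq_zero)
    have h5 := Fintype.one_lt_card (α := F)
    omega
  have hone : ∀ r : F, r ≠ 0 → r * r = 1 := fun r hr => by
    have := FiniteField.pow_card_sub_one_eq_one r hr
    rw [hF3, show 3 - 1 = 2 from rfl, pow_two] at this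
    exact this
  have hspan : ∀ X, IsSA q X → ∃ c : Option Y → F, X = ∑ i, c i • fam i := by
    intro X hX
    have htop := hli.span_eq_top_of_card_eq_finrank (by
      rw [Fintype.card_option, Module.finrank_fintype_fun_eq_card, hI, hYc, hF3]; norm_num)
    obtain ⟨c, hc⟩ := (Submodule.mem_span_range_iff_exists_fun F).1
      (htop ▸ Submodule.mem_top : Φ X ∈ Submodule.span F (Set.range fun o => Φ (fam o)))
    refine ⟨c, sub_eq_zero.1 (hΦ _ (fun x y => ?_) ?_)⟩
    · rw [sub_mulVec, sub_mulVec, polar_sub_left, polar_sub_right, hX, hsaSum c x y]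
    · rw [map_sub, map_sum, ← hc, sub_eq_zero]
      simp [map_smul]
  -- the sign of two conjugates
  have hsign : ∀ a b, a ≠ b → (La a : Matrix (Fin 4) (Fin 4) F) * La b = d • ((La b : Matrix (Fin 4) (Fin 4) F) * La a) := by
    intro a b hab
    have hpen := (hpenA a).div S.nd (hpenA b)
    set m := (E a * g)⁻¹ * (E b * g) with hm
    set K := (E a * g)⁻¹ * (La a)⁻¹ * La b * (E a * g) with hK
    have hmM : m ∈ M := M.mul_mem (M.inv_mem (hgM a)) (hgM b)
    have hKns : ∀ k : F, (K : Matrix (Fin 4) (Fin 4) F) ≠ k • 1 := by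
      intro k hk
      have e : La b = La a * ((E a * g) * K * (E a * g)⁻¹) := by rw [hK]; group
      refine hab (hline b a k ?_).symm
      rw [e, Units.val_mul (La a), Units.val_mul (E a * g * K), Units.val_mul (E a * g) K, hk, mul_smul_comm, mul_one, smul_mul_assoc, hmm,
        mul_smul_comm, mul_one]
    obtain ⟨hKtr, -⟩ := hall hmM hpen hKns
    obtain ⟨c, hc⟩ := hspan (K : Matrix (Fin 4) (Fin 4) F) (hpen.isSA S.nd)
    obtain ⟨e, k, hk⟩ : ∃ (e : Y) (k : F), (K : Matrix (Fin 4) (Fin 4) F) = k • (La e : Matrix (Fin 4) (Fin 4) F) := by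
      by_contra! hno
      have hzero : ∀ o, c o = 0 := by
        intro o
        have h1 := hsum c o
        rw [← hc] at h1
        refine (mul_eq_zero.1 ?_).resolve_right (hfamself o)
        rw [← h1]
        rcases o with _ | e
        · simpa [fam] using hKtr
        · rcases htrace hmM hpen e with ⟨k, hk⟩ | h
          · exact absurd hk (hno e k)
          · exact h
      exact K.ne_zero (by rw [hc]; simp [hzero])
    have hk0 : k ≠ 0 := fun h => K.ne_zero (by rw [hk, h, zero_smul])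
    have hKK : (K : Matrix (Fin 4) (Fin 4) F) * K = d • 1 := by
      rw [hk, smul_mul_smul_comm, hsq, hone k hk0, one_smul]
    have hPP : (((La a)⁻¹ * La b : GL (Fin 4) F) : Matrix (Fin 4) (Fin 4) F) *
        (((La a)⁻¹ * La b : GL (Fin 4) F) : Matrix (Fin 4) (Fin 4) F) = d • 1 := by
      rw [← Units.val_mul, show (La a)⁻¹ * La b * ((La a)⁻¹ * La b) = (E a * g) * (K * K) * (E a * g)⁻¹ by rw [hK]; group,
        Units.val_mul, Units.val_mul, Units.val_mul K, hKK, mul_smul_comm, mul_one, smul_mul_assoc, hmm]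
    have hinv : (((La a)⁻¹ : GL (Fin 4) F) : Matrix (Fin 4) (Fin 4) F) = d⁻¹ • (La a : Matrix (Fin 4) (Fin 4) F) := by
      calc _ = (d⁻¹ • ((La a : Matrix (Fin 4) (Fin 4) F) * La a)) * (((La a)⁻¹ : GL (Fin 4) F) : Matrix (Fin 4) (Fin 4) F) := by
            rw [hsq, inv_smul_smul₀ hd, one_mul]
        _ = _ := by rw [smul_mul_assoc, mul_assoc, hmm, mul_one]
    rw [Units.val_mul, hinv, smul_mul_assoc, smul_mul_smul_comm] at hPP
    set X := (La a : Matrix (Fin 4) (Fin 4) F)
    set Z := (La b : Matrix (Fin 4) (Fin 4) F)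
    have hdd : d⁻¹ * d⁻¹ = 1 := hone _ (inv_ne_zero hd)
    rw [hdd, one_smul] at hPP
    calc X * Z = (X * Z * (X * Z)) * (Z * X) := by
          rw [show X * Z * (X * Z) * (Z * X) = X * Z * (X * (Z * Z) * X) by simp only [mul_assoc], hsq b,
            mul_smul_comm, mul_one, smul_mul_assoc, hsq a, smul_smul, hone d hd, one_smul, mul_one]
      _ = d • (Z * X) := by rw [hPP, smul_mul_assoc, one_mul]
  obtain ⟨cu, hcu⟩ := hspan (rk q u) (rk_sa u)
  obtain ⟨cv, hcv⟩ := hspan (rk q v) (rk_sa v)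
  have hv0 : v ≠ 0 := fun h => by rw [h, polar_zero_right] at huv; exact zero_ne_one huv
  rcases mul_self_eq_one_iff.1 (hone d hd) with hd1 | hd1
  · -- everything commutes
    have hcomm : ∀ o o', fam o * fam o' = fam o' * fam o := by
      rintro (_ | a) (_ | b)
      · rfl
      · simp [fam]
      · simp [fam]
      · rcases eq_or_ne a b with rfl | hab
        · rfl
        · simp only [fam, Option.elim_some]
          rw [hsign a b hab, hd1, one_smul]
    have h1 : rk q u * rk q v = rk q v * rk q u := by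
      rw [hcu, hcv, Finset.sum_mul_sum, Finset.sum_mul_sum, Finset.sum_comm]
      exact Finset.sum_congr rfl fun i _ => Finset.sum_congr rfl fun j _ => by
        rw [smul_mul_smul_comm, smul_mul_smul_comm, hcomm, mul_comm]
    have h2 := congrArg (fun T => T *ᵥ u) h1
    simp only [← mulVec_mulVec, rk_mulVec, polar_self' (Q := q) u, hu, mul_zero, zero_smul, mulVec_zero, huv,
      one_smul, polar_comm (f := ⇑q) v u, polar_zero_left] at h2
    exact hu0 h2
  · -- everything anticommutes
    have hnone : ∀ (w : Fin 4 → F) (c : Option Y → F), q w = 0 → rk q w = ∑ i, c i • fam i → c none = 0 := by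
      intro w c hw hc
      have h1 := hsum c none
      rw [← hc] at h1
      refine (mul_eq_zero.1 ?_).resolve_right (hfamself none)
      rw [← h1]
      simpa [fam] using rk_trace hw
    have h1 : ∃ k : F, rk q u * rk q v + rk q v * rk q u = k • 1 := by
      refine ⟨∑ a : Y, cu (some a) * cv (some a) * (d + d), ?_⟩
      rw [hcu, hcv, Fintype.sum_option, Fintype.sum_option, hnone u cu hu hcu, hnone v cv hv hcv]
      simp only [zero_smul, zero_add]
      rw [Finset.sum_mul_sum, Finset.sum_mul_sum]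
      conv_lhs => arg 2; rw [Finset.sum_comm]
      rw [← Finset.sum_add_distrib, Finset.sum_smul]
      refine Finset.sum_congr rfl fun a _ => ?_
      rw [← Finset.sum_add_distrib, Finset.sum_eq_single a]
      · simp only [fam, Option.elim_some, smul_mul_smul_comm, hsq, smul_smul, ← add_smul]
        congr 1
        ring
      · intro b _ hb
        simp only [fam, Option.elim_some, smul_mul_smul_comm]
        rw [hsign a b (Ne.symm hb), hd1, neg_one_smul, smul_neg, mul_comm (cv (some b)), neg_add_cancel]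
      · simp
    obtain ⟨k, hk⟩ := h1
    exact rk_anticomm_ne S.nd hu0 hu hv huv k hk

/-- The orthogonal similitudes of determinant one form a maximal subgroup in degree four. -/
theorem maximal (hq : q.polarBilin.Nondegenerate) (h2 : (2 : F) ≠ 0) :
    Cfsg.Geo.IsMaximalIn (Cfsg.Geo.specialLinear (Fin 4) F)
      (Cfsg.Geo.quadSimilarityGroup (q : (Fin 4 → F) → F) ⊓ Cfsg.Geo.specialLinear (Fin 4) F) := by
  have h4 : (4 : F) ≠ 0 := by
    rw [show (4 : F) = 2 * 2 by norm_num]
    exact mul_ne_zero h2 h2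
  refine ⟨lt_of_le_of_ne inf_le_right fun he => ?_, fun M hle hMS => ?_⟩
  · -- a transvection along a singular point is no similitude
    obtain ⟨u, hu0, hu⟩ := exists_singular_ne_zero hq
    obtain ⟨v, hv, huv⟩ := exists_partner_top hq hu0 hu
    obtain ⟨hY, hYn⟩ := perp_plane hq hu hv huv
    obtain ⟨a, ha, hqa⟩ := exists_aniso_mem hq hYn (fun h0 => by rw [h0, finrank_bot] at hY; omega)
    rw [OrthEich.mem_orth_pair] at ha
    have huu : polar q u u = 0 := by rw [polar_self', hu, mul_zero]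
    have h0 : dual q u ⬝ᵥ u = 0 := by rw [dual_dot, huu]
    have hmem : tv u (dual q u) ∈ Cfsg.Geo.specialLinear (Fin 4) F := tv_mem_specialLinear _ _
    rw [← he] at hmem
    obtain ⟨c, hc⟩ := hmem.1
    have e1 := hc a
    rw [tv_mulVec h0, dual_dot, polar_comm, ha.1, zero_smul, add_zero] at e1
    have hc1 : (c : F) = 1 := mul_right_cancel₀ hqa (by rw [one_mul]; exact e1.symm)
    have e2 := hc v
    rw [tv_mulVec h0, dual_dot, polar_comm, huv, one_smul, hc1, one_mul, QuadraticMap.map_add ⇑q, hv, hu,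
      polar_comm, huv] at e2
    exact one_ne_zero (by linear_combination e2)
  by_cases hall : M ≤ Cfsg.Geo.quadSimilarityGroup (q : (Fin 4 → F) → F)
  · exact Or.inl (le_antisymm (le_inf hall hMS) hle)
  obtain ⟨g, hg, hgn⟩ := SetLike.not_le_iff_exists.1 hall
  refine Or.inr (le_antisymm hMS ?_)
  by_contra hcon
  have S : Setting q M := ⟨hq, h2, hle, hMS, hcon⟩
  obtain ⟨L, hL⟩ := exists_pen hq g
  have hns : ∀ k : F, (L : Matrix (Fin 4) (Fin 4) F) ≠ k • 1 := fun k hk => hgn (hL.similitude hq h2 hk)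
  by_cases hex : ∃ m L, m ∈ M ∧ IsPen q m L ∧ (∀ k : F, (L : Matrix (Fin 4) (Fin 4) F) ≠ k • 1) ∧
      (L : Matrix (Fin 4) (Fin 4) F).trace ≠ 0
  · obtain ⟨m, K, hm, hK, hKns, htr⟩ := hex
    obtain ⟨s, d, N, hKN, -, hN, hNsa, hNns, hNtr, hdet⟩ := S.normal hm hK hKns
    refine S.false_of_trace hm hK (fun hs => htr ?_) h4 hKN hN hNsa hNns hNtr hdet
    rw [hKN, hs, zero_smul, zero_add, hNtr]
  · push Not at hex
    refine S.false_of_trace_zero h4 (fun {m K} hm hK hKns => ?_) hg hL hns
    have htr := hex m K hm hK hKns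
    obtain ⟨s, d, N, hKN, hd, hN, -, -, hNtr, -⟩ := S.normal hm hK hKns
    have hs : s = 0 := by
      rw [hKN, trace_add, trace_smul, trace_one, hNtr, add_zero, Fintype.card_fin, smul_eq_mul, Nat.cast_ofNat] at htr
      exact (mul_eq_zero.1 htr).resolve_right h4
    exact ⟨htr, d, hd, by rw [hKN, hs, zero_smul, zero_add, hN]⟩

end CfsgLib.GeomClasses.OrthFour
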