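import Cfsg.Agent.Lib.GeomClasses.OrthFour.Flag

/-!
In an overgroup without transvection every vector singular for a transformed form spans with its image
under the pencil an invariant plane.
-/

set_option autoImplicit false
set_option linter.unusedSectionVars false

namespace CfsgLib.GeomClasses.OrthFour

open Matrix QuadraticMap CfsgLib.Orth

variable {F : Type*} [Field F] [Fintype F] {q : QuadraticForm F (Fin 4 → F)} {M : Subgroup (GL (Fin 4) F)}

/-- No singular eigenvector. -/
def NoEigen (q : QuadraticForm F (Fin 4 → F)) (L : Matrix (Fin 4) (Fin 4) F) : Prop :=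
  ∀ (u : Fin 4 → F) (k : F), u ≠ 0 → q u = 0 → L *ᵥ u ≠ k • u

theorem Setting.noEigen (S : Setting q M) {m L : GL (Fin 4) F} (hm : m ∈ M) (hL : IsPen q m L)
    (hns : ∀ k : F, (L : Matrix (Fin 4) (Fin 4) F) ≠ k • 1) : NoEigen q (L : Matrix (Fin 4) (Fin 4) F) :=
  fun u k hu0 hu hLu => by
    obtain ⟨t, ht⟩ := S.eigen_scalar hm hL hu0 hu hLu
    exact hns t ht

/-- An isometry fixing a vector singular for the transformed form and its image commutes with the pencil. -/
theorem Setting.stab_comm (S : Setting q M) {m L : GL (Fin 4) F} (hm : m ∈ M) (hL : IsPen q m L)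
    {v : Fin 4 → F} (hv0 : v ≠ 0) (hv : polar q v ((L : Matrix (Fin 4) (Fin 4) F) *ᵥ v) = 0)
    {h : O q} (hh : detHom q h = 1) (h1 : app h v = v)
    (h2 : app h ((L : Matrix (Fin 4) (Fin 4) F) *ᵥ v) = (L : Matrix (Fin 4) (Fin 4) F) *ᵥ v) :
    ∀ x, app h ((L : Matrix (Fin 4) (Fin 4) F) *ᵥ x) = (L : Matrix (Fin 4) (Fin 4) F) *ᵥ app h x := by
  set H := (h : GL (Fin 4) F)
  set u := ((m⁻¹ : GL (Fin 4) F) : Matrix (Fin 4) (Fin 4) F) *ᵥ v with hu
  have hu0 : u ≠ 0 := gl_mulVec_ne_zero _ hv0
  have hqu : q u = 0 := by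
    have e := hL v v
    rw [hv, polar_self', ← hu] at e
    exact (mul_eq_zero.1 e).resolve_left S.two
  have hpen : IsPen q (m⁻¹ * (H * m)) (m⁻¹ * L⁻¹ * (H * L * H⁻¹) * m) :=
    hL.div S.nd (hL.isometry_mul S.nd h)
  have hmem : m⁻¹ * (H * m) ∈ M := M.mul_mem (M.inv_mem hm) (M.mul_mem (S.isometry_mem hh) hm)
  have hHv : (H : Matrix (Fin 4) (Fin 4) F) *ᵥ v = v := h1
  have hHi : ((H⁻¹ : GL (Fin 4) F) : Matrix (Fin 4) (Fin 4) F) *ᵥ v = v := by
    conv_lhs => rw [← hHv]
    rw [gl_inv_mulVec_mulVec]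
  have hLu : ((m⁻¹ * L⁻¹ * (H * L * H⁻¹) * m : GL (Fin 4) F) : Matrix (Fin 4) (Fin 4) F) *ᵥ u = (1 : F) • u := by
    rw [gl_mul_mulVec, hu, gl_mulVec_inv_mulVec, gl_mul_mulVec, gl_mul_mulVec, gl_mul_mulVec, gl_mul_mulVec, hHi,
      show (H : Matrix (Fin 4) (Fin 4) F) *ᵥ ((L : Matrix (Fin 4) (Fin 4) F) *ᵥ v) = app h ((L : Matrix (Fin 4) (Fin 4) F) *ᵥ v)
        from rfl, h2, gl_inv_mulVec_mulVec, one_smul]
  obtain ⟨k, hk⟩ := S.eigen_scalar hmem hpen hu0 hqu hLu
  have hk1 : k = 1 := by
    rw [hk, smul_mulVec, one_mulVec] at hLu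
    exact smul_left_injective F hu0 hLu
  have he : m⁻¹ * L⁻¹ * (H * L * H⁻¹) * m = 1 := Units.ext (by rw [hk, hk1, one_smul, Units.val_one])
  have hcomm : H * L = L * H := by
    have : L⁻¹ * (H * L * H⁻¹) = 1 := by
      calc L⁻¹ * (H * L * H⁻¹) = m * (m⁻¹ * L⁻¹ * (H * L * H⁻¹) * m) * m⁻¹ := by group
        _ = 1 := by rw [he]; group
    calc H * L = L * (L⁻¹ * (H * L * H⁻¹)) * H := by group
      _ = L * H := by rw [this, mul_one]
  intro x
  show (H : Matrix (Fin 4) (Fin 4) F) *ᵥ _ = (L : Matrix (Fin 4) (Fin 4) F) *ᵥ ((H : Matrix (Fin 4) (Fin 4) F) *ᵥ x)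
  rw [← gl_mul_mulVec, ← gl_mul_mulVec, hcomm]

/-- The plane spanned by a vector and its image. -/
abbrev plane (L : Matrix (Fin 4) (Fin 4) F) (v : Fin 4 → F) : Submodule F (Fin 4 → F) :=
  Submodule.span F {v, L *ᵥ v}

theorem finrank_plane {L : Matrix (Fin 4) (Fin 4) F} {v : Fin 4 → F} (hv : v ≠ 0)
    (hne : ∀ k : F, L *ᵥ v ≠ k • v) : Module.finrank F (plane L v) = 2 := by
  have hli : LinearIndependent F ![v, L *ᵥ v] := (LinearIndependent.pair_iff' hv).2 fun k => (hne k).symm
  rw [plane, show ({v, L *ᵥ v} : Set (Fin 4 → F)) = Set.range ![v, L *ᵥ v] from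
    (Matrix.range_cons_cons_empty v _ ![]).symm, finrank_span_eq_card hli, Fintype.card_fin]

theorem not_eigen {L : Matrix (Fin 4) (Fin 4) F} (h2 : (2 : F) ≠ 0) (hni : NoEigen q L) {v : Fin 4 → F}
    (hv0 : v ≠ 0) (hinj : L *ᵥ v ≠ 0) (hv : polar q v (L *ᵥ v) = 0) (k : F) : L *ᵥ v ≠ k • v := fun hk => by
  have hk0 : k ≠ 0 := fun h0 => hinj (by rw [hk, h0, zero_smul])
  rw [hk, polar_smul_right, polar_self'] at hv
  exact hni v k hv0 ((mul_eq_zero.1 ((mul_eq_zero.1 hv).resolve_left hk0)).resolve_left h2) hk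

/-- The square of the pencil maps a vector singular for the transformed form into its plane. -/
theorem Setting.plane_invariant (S : Setting q M) {m L : GL (Fin 4) F} (hm : m ∈ M) (hL : IsPen q m L)
    (hns : ∀ k : F, (L : Matrix (Fin 4) (Fin 4) F) ≠ k • 1) {v : Fin 4 → F} (hv0 : v ≠ 0)
    (hv : polar q v ((L : Matrix (Fin 4) (Fin 4) F) *ᵥ v) = 0) :
    ((q v ≠ 0 ∧ q ((L : Matrix (Fin 4) (Fin 4) F) *ᵥ v) ≠ 0) ∨
        (q v = 0 ∧ q ((L : Matrix (Fin 4) (Fin 4) F) *ᵥ v) = 0)) ∧
      (L : Matrix (Fin 4) (Fin 4) F) *ᵥ ((L : Matrix (Fin 4) (Fin 4) F) *ᵥ v) ∈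
        plane (L : Matrix (Fin 4) (Fin 4) F) v := by
  set A := (L : Matrix (Fin 4) (Fin 4) F) with hA
  set w := A *ᵥ v with hw
  have hni : NoEigen q A := S.noEigen hm hL hns
  have hSA : IsSA q A := hL.isSA S.nd
  have hne : ∀ k : F, A *ᵥ v ≠ k • v := not_eigen S.two hni hv0 (gl_mulVec_ne_zero L hv0) hv
  have hW : Module.finrank F (plane A v) = 2 := finrank_plane hv0 hne
  set X := OrthTools.orth q (plane A v) with hX
  have hXd : Module.finrank F X = 2 := by rw [hX, OrthTools.finrank_orth S.nd, hW, Fintype.card_fin]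
  have hmemX : ∀ x, x ∈ X ↔ polar q v x = 0 ∧ polar q w x = 0 := fun x => OrthEich.mem_orth_pair
  have hcomm : ∀ {h : O q}, detHom q h = 1 → app h v = v → app h w = w →
      ∀ x, app h (A *ᵥ x) = A *ᵥ app h x := fun hh h1 h2 => S.stab_comm hm hL hv0 hv hh h1 h2
  have hisolated : ∀ {s t : Fin 4 → F}, s ∈ plane A v → s ≠ 0 → q s = 0 → polar q v s = 0 → polar q w s = 0 →
      t ∈ plane A v → q t ≠ 0 → ∃ d ∈ X, q d ≠ 0 := by
    intro s t hs hs0 hqs hvs hws ht hqt
    by_contra! hall
    have h2 : X ≤ OrthTools.orth q X := fun x hx => OrthTools.mem_orth.2 fun y hy =>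
      OrthClasses.polar_of_singular hall hy hx
    rw [hX, OrthSubspace.orth_orth S.nd, ← hX] at h2
    have h3 := Submodule.eq_of_le_of_finrank_le h2 (by omega)
    exact hqt (hall t (h3 ▸ ht))
  by_cases hqv : q v = 0
  · by_cases hqw : q w = 0
    · -- a totally singular plane
      refine ⟨Or.inr ⟨hqv, hqw⟩, ?_⟩
      have hvv : polar q v v = 0 := by rw [polar_self', hqv, mul_zero]
      have hww : polar q w w = 0 := by rw [polar_self', hqw, mul_zero]
      have hwv : polar q w v = 0 := by rw [polar_comm, hv]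
      have hf1 : app (eich q v w) v = v := by rw [app_eich hqv hv, hvv, hv]; simp
      have hf2 : app (eich q v w) w = w := by rw [app_eich hqv hv, hwv, hww]; simp
      have h1 := hcomm (detHom_eich S.nd S.two hqv hv) hf1 hf2 w
      rw [hf2, app_eich hqv hv, hqw, zero_mul, sub_zero, add_assoc, add_eq_left] at h1
      obtain ⟨h3, h4⟩ := (LinearIndependent.pair_iff.1
        ((LinearIndependent.pair_iff' hv0).2 fun k => (hne k).symm)) _ _ (by rw [add_comm]; exact h1)
      have hle : plane A v ≤ X := Submodule.span_le.2 fun x hx => by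
        rcases hx with rfl | rfl
        · exact (hmemX _).2 ⟨hvv, hwv⟩
        · exact (hmemX _).2 ⟨hv, hww⟩
      rw [Submodule.eq_of_le_of_finrank_le hle (by omega), hmemX]
      exact ⟨by rw [polar_comm]; exact h4, by rw [polar_comm]; exact neg_eq_zero.1 h3⟩
    · -- impossible
      exfalso
      obtain ⟨d, hd, hqd⟩ := hisolated (s := v) (t := w) (Submodule.subset_span (by simp)) hv0 hqv
        (by rw [polar_self', hqv, mul_zero]) (by rw [polar_comm, hv]) (Submodule.subset_span (by simp [hw])) hqw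
      rw [hmemX] at hd
      have hvv : polar q v v = 0 := by rw [polar_self', hqv, mul_zero]
      have hf1 : app (eich q v d) v = v := by rw [app_eich hqv hd.1, hvv, hd.1]; simp
      have hf2 : app (eich q v d) w = w := by rw [app_eich hqv hd.1, polar_comm (f := ⇑q) w v, hv, hd.2]; simp
      have h1 := hcomm (detHom_eich S.nd S.two hqv hd.1) hf1 hf2 d
      rw [app_eich hqv hd.1, app_eich hqv hd.1, mulVec_add, mulVec_add, mulVec_smul, mulVec_smul, ← hw,
        polar_comm (f := ⇑q) d v, hd.1, hSA d v, ← hw, polar_comm (f := ⇑q) d w, hd.2, polar_self'] at h1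
      have h3 := congrArg (fun z => polar q w z) h1
      simp only [zero_smul, add_zero, mul_zero, sub_zero, polar_add_right, polar_smul_right, polar_self',
        polar_comm (f := ⇑q) w v, hv, smul_eq_mul] at h3
      exact mul_ne_zero (mul_ne_zero S.two hqd) (mul_ne_zero S.two hqw) (by linear_combination h3)
  · by_cases hqw : q w = 0
    · -- impossible
      exfalso
      have hw0 : w ≠ 0 := fun h0 => hne 0 (by rw [← hw, h0, zero_smul])
      obtain ⟨d, hd, hqd⟩ := hisolated (s := w) (t := v) (Submodule.subset_span (by simp [hw])) hw0 hqw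
        hv (by rw [polar_self', hqw, mul_zero]) (Submodule.subset_span (by simp)) hqv
      rw [hmemX] at hd
      have hww : polar q w w = 0 := by rw [polar_self', hqw, mul_zero]
      have hf1 : app (eich q w d) v = v := by rw [app_eich hqw hd.2, hv, hd.1]; simp
      have hf2 : app (eich q w d) w = w := by rw [app_eich hqw hd.2, hww, hd.2]; simp
      have hc := hcomm (detHom_eich S.nd S.two hqw hd.2) hf1 hf2
      have h1 := hc w
      rw [hf2, app_eich hqw hd.2, add_assoc, add_eq_left] at h1
      have hzw : polar q (A *ᵥ w) w = 0 := by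
        have h3 := congrArg (fun z => polar q d z) h1
        simp only [polar_add_right, polar_smul_right, polar_self', polar_comm (f := ⇑q) d w, hd.2, smul_eq_mul,
          polar_zero_right, mul_zero, add_zero] at h3
        exact (mul_eq_zero.1 h3).resolve_right (mul_ne_zero S.two hqd)
      have h3 := hc d
      rw [app_eich hqw hd.2, app_eich hqw hd.2, mulVec_add, mulVec_add, mulVec_smul, mulVec_smul,
        polar_comm (f := ⇑q) d w, hd.2, polar_self'] at h3
      simp only [zero_smul, add_zero, mul_zero, sub_zero] at h3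
      have hdw : polar q (A *ᵥ d) w = 0 := by
        rw [hSA, ← polar_comm (f := ⇑q) (A *ᵥ w) d]
        rw [hzw, zero_smul, zero_add, mul_zero, sub_zero, smul_eq_zero] at h1
        exact neg_eq_zero.1 (h1.resolve_right hw0)
      rw [hdw, zero_smul, add_zero, mul_zero, sub_zero, add_left_cancel_iff] at h3
      refine hni w (polar q (A *ᵥ d) d / (2 * q d)) hw0 hqw ?_
      rw [div_eq_inv_mul, mul_smul, eq_inv_smul_iff₀ (mul_ne_zero S.two hqd)]
      refine neg_injective ?_
      rw [← neg_smul, ← neg_smul]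
      exact h3.symm
    · -- a non-degenerate plane
      refine ⟨Or.inl ⟨hqv, hqw⟩, ?_⟩
      have hXn : ∀ x ∈ X, x ≠ 0 → ∃ y ∈ X, polar q x y ≠ 0 := by
        refine OrthTools.orth_nondegenerate S.nd fun x hx hx0 => ?_
        obtain ⟨r, s, rfl⟩ := Submodule.mem_span_pair.1 hx
        rcases eq_or_ne r 0 with rfl | hr
        · have hs : s ≠ 0 := by rintro rfl; simp at hx0
          exact ⟨w, Submodule.subset_span (by simp [hw]), by
            simp [← hw, polar_smul_left, polar_self', S.two, hqw, hs]⟩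
        · exact ⟨v, Submodule.subset_span (by simp), by
            simp [← hw, polar_add_left, polar_smul_left, polar_self', polar_comm (f := ⇑q) w v, hv, S.two, hqv, hr]⟩
      obtain ⟨c, hc, hqc⟩ := exists_aniso_mem S.nd hXn (fun h0 => by rw [h0, finrank_bot] at hXd; omega)
      obtain ⟨d, hd', hqd⟩ := exists_aniso_mem S.nd (inf_orth_nondegenerate S.two hXn hc hqc) (fun h0 => by
        have h1 := OrthTools.finrank_inf_orth S.nd X c
        rw [h0, finrank_bot] at h1; omega)
      obtain ⟨hd, hcd⟩ := OrthTools.mem_inf_orth hd'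
      rw [hmemX] at hc hd
      have hfix : ∀ x, polar q x c = 0 → polar q x d = 0 → app (refl q c * refl q d) x = x := fun x hxc hxd => by
        rw [app_mul, app_refl_of_ortho hxd, app_refl_of_ortho hxc]
      have h1 := hcomm (detHom_refl_pair S.two hqc hqd) (hfix v hc.1 hd.1) (hfix w hc.2 hd.2) w
      rw [hfix w hc.2 hd.2] at h1
      set z := A *ᵥ w with hz
      have hzd : polar q z d = 0 := by
        have h3 := congrArg (fun x => polar q x d) h1
        simp only [app_mul, app_refl, polar_sub_left, polar_smul_left, polar_sub_right, polar_smul_right,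
          polar_self', hcd, polar_comm (f := ⇑q) d c, smul_eq_mul, mul_zero, sub_zero] at h3
        field_simp at h3
        exact (mul_eq_zero.1 (show (2 : F) * polar q z d = 0 by linear_combination -h3)).resolve_left S.two
      have hzc : polar q z c = 0 := by
        have h3 := congrArg (fun x => polar q x c) h1
        simp only [app_mul, app_refl, polar_sub_left, polar_smul_left, polar_sub_right, polar_smul_right,
          polar_self', hzd, hcd, polar_comm (f := ⇑q) d c, smul_eq_mul, mul_zero, sub_zero] at h3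
        field_simp at h3
        exact (mul_eq_zero.1 (show (2 : F) * polar q z c = 0 by linear_combination -h3)).resolve_left S.two
      have hwv : polar q w v = 0 := by rw [polar_comm, hv]
      have hcv : polar q c v = 0 := by rw [polar_comm, hc.1]
      have hcw : polar q c w = 0 := by rw [polar_comm, hc.2]
      have hdv : polar q d v = 0 := by rw [polar_comm, hd.1]
      have hdw : polar q d w = 0 := by rw [polar_comm, hd.2]
      have hdc : polar q d c = 0 := by rw [polar_comm, hcd]
      have hor : ∀ i j : Fin 4, i ≠ j → polar q (![v, w, c, d] i) (![v, w, c, d] j) = 0 := by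
        intro i j hij
        fin_cases i <;> fin_cases j <;>
          first
            | exact absurd rfl hij
            | simp [hv, hwv, hc.1, hc.2, hd.1, hd.2, hcd, hcv, hcw, hdv, hdw, hdc]
      have he := expand S.nd S.two (e := ![v, w, c, d]) hor
        (fun i => by fin_cases i <;> simp [hqv, hqw, hqc, hqd]) z
      rw [Fin.sum_univ_four] at he
      simp only [Matrix.cons_val_zero, Matrix.cons_val_one, Matrix.cons_val_two, Matrix.cons_val_three,
        Matrix.head_cons, Matrix.tail_cons, hzc, hzd, zero_div, zero_smul, add_zero] at he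
      exact Submodule.mem_span_pair.2 ⟨_, _, he.symm⟩

end CfsgLib.GeomClasses.OrthFour
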