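import Cfsg.Agent.Lib.GeomClasses.OrthFour.Planes

/-!
In an overgroup without transvection every pencil satisfies a quadratic equation.
-/

set_option autoImplicit false
set_option linter.unusedSectionVars false

namespace CfsgLib.GeomClasses.OrthFour

open Matrix QuadraticMap CfsgLib.Orth

variable {F : Type*} [Field F] [Fintype F] {q : QuadraticForm F (Fin 4 → F)} {M : Subgroup (GL (Fin 4) F)}

/-- The value of `L² - γ L - δ`. -/
abbrev res (L : Matrix (Fin 4) (Fin 4) F) (γ δ : F) (x : Fin 4 → F) : Fin 4 → F :=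
  L *ᵥ (L *ᵥ x) - γ • L *ᵥ x - δ • x

theorem res_sym {L : Matrix (Fin 4) (Fin 4) F} (hL : IsSA q L) (γ δ : F) (x y : Fin 4 → F) :
    polar q (res L γ δ x) y = polar q x (res L γ δ y) := by
  simp only [res, polar_sub_left, polar_sub_right, polar_smul_left, polar_smul_right, hL (L *ᵥ x) y, hL x (L *ᵥ y),
    hL x y]

theorem res_add (L : Matrix (Fin 4) (Fin 4) F) (γ δ : F) (x y : Fin 4 → F) :
    res L γ δ (x + y) = res L γ δ x + res L γ δ y := by
  simp only [res, mulVec_add, smul_add]; abel

theorem res_smul (L : Matrix (Fin 4) (Fin 4) F) (γ δ k : F) (x : Fin 4 → F) :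
    res L γ δ (k • x) = k • res L γ δ x := by
  simp only [res, mulVec_smul, smul_sub, smul_comm k]

/-- If two quadratic relations hold at a vector which is no eigenvector they agree. -/
theorem rel_unique {L : Matrix (Fin 4) (Fin 4) F} {x : Fin 4 → F} (hx : x ≠ 0) (hne : ∀ k : F, L *ᵥ x ≠ k • x)
    {γ δ γ' δ' : F} (h : res L γ δ x = 0) (h' : res L γ' δ' x = 0) : γ' = γ ∧ δ' = δ := by
  have hli := (LinearIndependent.pair_iff' hx).2 fun k => (hne k).symm
  obtain ⟨h1, h3⟩ := LinearIndependent.pair_iff.1 hli (δ' - δ) (γ' - γ) (by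
    simp only [res] at h h'
    linear_combination (norm := module) h - h')
  exact ⟨sub_eq_zero.1 h3, sub_eq_zero.1 h1⟩

/-- The pencils satisfy quadratic equations. -/
theorem Setting.quadratic (S : Setting q M) {m L : GL (Fin 4) F} (hm : m ∈ M) (hL : IsPen q m L)
    (hns : ∀ k : F, (L : Matrix (Fin 4) (Fin 4) F) ≠ k • 1) :
    ∃ γ δ : F, (L : Matrix (Fin 4) (Fin 4) F) * L = γ • (L : Matrix (Fin 4) (Fin 4) F) + δ • 1 := by
  set A := (L : Matrix (Fin 4) (Fin 4) F) with hA
  have hni : NoEigen q A := S.noEigen hm hL hns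
  have hSA : IsSA q A := hL.isSA S.nd
  have hinj : ∀ x, x ≠ 0 → A *ᵥ x ≠ 0 := fun x hx => gl_mulVec_ne_zero L hx
  have hplane := fun {v : Fin 4 → F} (hv0 : v ≠ 0) (hv : polar q v (A *ᵥ v) = 0) => S.plane_invariant hm hL hns hv0 hv
  suffices h : ∃ γ δ : F, ∀ z, polar q z (A *ᵥ z) = 0 → res A γ δ z = 0 by
    obtain ⟨γ, δ, h⟩ := h
    refine ⟨γ, δ, ?_⟩
    set T := A * A - γ • A - δ • 1 with hT
    have hTx : ∀ x, T *ᵥ x = res A γ δ x := fun x => by
      simp [hT, res, sub_mulVec, smul_mulVec, mulVec_mulVec]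
    have hT0 : T * (m : Matrix (Fin 4) (Fin 4) F) = 0 := by
      refine eq_zero_of_singular S.nd S.two fun u hu => ?_
      rw [← mulVec_mulVec, hTx]
      refine h _ ?_
      rw [hA, ← hL, gl_inv_mulVec_mulVec, polar_self', hu, mul_zero]
    have hT1 : T = 0 := by
      calc T = T * (m : Matrix (Fin 4) (Fin 4) F) * ((m⁻¹ : GL (Fin 4) F) : Matrix (Fin 4) (Fin 4) F) := by
            rw [mul_assoc, ← Units.val_mul, mul_inv_cancel, Units.val_one, mul_one]
        _ = 0 := by rw [hT0, zero_mul]
    rw [hT, sub_sub, sub_eq_zero] at hT1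
    exact hT1
  have hrel : ∀ {v : Fin 4 → F}, v ≠ 0 → polar q v (A *ᵥ v) = 0 → ∃ γ δ : F, res A γ δ v = 0 := by
    intro v hv0 hv
    obtain ⟨a, b, hab⟩ := Submodule.mem_span_pair.1 (hplane hv0 hv).2
    exact ⟨b, a, by simp only [res]; linear_combination (norm := module) -hab⟩
  have hinvW : ∀ {v : Fin 4 → F} {γ δ : F}, res A γ δ v = 0 → ∀ x ∈ plane A v,
      A *ᵥ x ∈ plane A v ∧ res A γ δ x = 0 := by
    intro v γ δ h x hx
    obtain ⟨a, b, rfl⟩ := Submodule.mem_span_pair.1 hx
    have hAA : A *ᵥ (A *ᵥ v) = γ • A *ᵥ v + δ • v := by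
      simp only [res] at h
      linear_combination (norm := module) h
    refine ⟨?_, ?_⟩
    · rw [mulVec_add, mulVec_smul, mulVec_smul, hAA]
      exact Submodule.mem_span_pair.2 ⟨b * δ, a + b * γ, by module⟩
    · rw [res_add, res_smul, res_smul, h, smul_zero, zero_add]
      simp only [res]
      rw [hAA, mulVec_add, mulVec_smul, mulVec_smul, hAA]
      module
  obtain ⟨u, hu0, hu⟩ := exists_singular_ne_zero S.nd
  have hv₁ : polar q ((m : Matrix (Fin 4) (Fin 4) F) *ᵥ u) (A *ᵥ ((m : Matrix (Fin 4) (Fin 4) F) *ᵥ u)) = 0 := by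
    rw [hA, ← hL, gl_inv_mulVec_mulVec, polar_self', hu, mul_zero]
  by_cases hts : ∃ v, v ≠ 0 ∧ polar q v (A *ᵥ v) = 0 ∧ q v = 0
  · -- a totally singular invariant plane
    obtain ⟨v, hv0, hv, hqv⟩ := hts
    obtain ⟨γ, δ, hr⟩ := hrel hv0 hv
    have hqw : q (A *ᵥ v) = 0 := by
      rcases (hplane hv0 hv).1 with h | h
      · exact absurd hqv h.1
      · exact h.2
    set W := plane A v with hW
    have hsing : ∀ x ∈ W, q x = 0 := by
      intro x hx
      obtain ⟨a, b, rfl⟩ := Submodule.mem_span_pair.1 hx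
      rw [QuadraticMap.map_add ⇑q, QuadraticMap.map_smul, QuadraticMap.map_smul, polar_smul_left,
        polar_smul_right, hqv, hqw, hv]
      simp
    have hWd : Module.finrank F W = 2 := finrank_plane hv0 (not_eigen S.two hni hv0 (hinj v hv0) hv)
    have horth : OrthTools.orth q W = W := by
      refine (Submodule.eq_of_le_of_finrank_le (fun x hx => OrthTools.mem_orth.2 fun y hy =>
        OrthClasses.polar_of_singular hsing hy hx) ?_).symm
      rw [OrthTools.finrank_orth S.nd, hWd, Fintype.card_fin]
    refine ⟨γ, δ, fun z hz => ?_⟩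
    rcases eq_or_ne z 0 with rfl | hz0
    · simp [res]
    obtain ⟨γ', δ', hr'⟩ := hrel hz0 hz
    set y := res A γ δ z with hy
    have hyW : y ∈ W := by
      rw [← horth]
      refine OrthTools.mem_orth.2 fun x hx => ?_
      rw [hy, ← res_sym hSA, (hinvW hr x hx).2, polar_zero_left]
    have hyz : y ∈ plane A z := Submodule.mem_span_pair.2 ⟨δ' - δ, γ' - γ, by
      rw [hy]; simp only [res] at hr' ⊢; linear_combination (norm := module) -hr'⟩
    by_contra hy0
    have hne : ∀ k : F, A *ᵥ y ≠ k • y := fun k => hni y k hy0 (hsing y hyW)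
    have hle : plane A y ≤ W := Submodule.span_le.2 fun x hx => by
      rcases hx with rfl | rfl
      · exact hyW
      · exact (hinvW hr y hyW).1
    have hle' : plane A y ≤ plane A z := Submodule.span_le.2 fun x hx => by
      rcases hx with rfl | rfl
      · exact hyz
      · exact (hinvW hr' y hyz).1
    have e1 := Submodule.eq_of_le_of_finrank_le hle (by rw [hWd, finrank_plane hy0 hne])
    have e2 := Submodule.eq_of_le_of_finrank_le hle'
      (by rw [finrank_plane hy0 hne, finrank_plane hz0 (not_eigen S.two hni hz0 (hinj z hz0) hz)])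
    have hzW : z ∈ W := by rw [← e1, e2]; exact Submodule.subset_span (by simp)
    exact hy0 (hinvW hr z hzW).2
  · -- non-degenerate invariant planes
    push Not at hts
    set v := (m : Matrix (Fin 4) (Fin 4) F) *ᵥ u with hvdef
    have hv0 : v ≠ 0 := gl_mulVec_ne_zero m hu0
    have hqv : q v ≠ 0 := hts v hv0 hv₁
    set w := A *ᵥ v with hw
    have hqw : q w ≠ 0 := by
      rcases (hplane hv0 hv₁).1 with h | h
      · exact h.2
      · exact absurd h.1 hqv
    have hne := not_eigen S.two hni hv0 (hinj v hv0) hv₁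
    obtain ⟨γ, δ, hr⟩ := hrel hv0 hv₁
    set W := plane A v with hW
    set U := OrthTools.orth q W with hU
    have hvW : v ∈ W := Submodule.subset_span (by simp)
    have hwW : w ∈ W := Submodule.subset_span (by simp [hw])
    have hb : (2 : F) * q w ≠ 0 := mul_ne_zero S.two hqw
    have hvw : polar q v (A *ᵥ w) = 2 * q w := by rw [← hSA, ← hw, polar_self']
    have hdisj : ∀ x, x ∈ W → x ∈ U → x = 0 := by
      intro x hx hxU
      obtain ⟨a, b, rfl⟩ := Submodule.mem_span_pair.1 hx
      have h1 := OrthTools.mem_orth.1 hxU v hvW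
      have h3 := OrthTools.mem_orth.1 hxU w hwW
      simp only [← hw, polar_add_right, polar_smul_right, polar_self', polar_comm (f := ⇑q) w v, hv₁, smul_eq_mul,
        mul_zero, add_zero, zero_add, mul_eq_zero, S.two, hqv, hqw, or_false] at h1 h3
      rw [h1, h3, zero_smul, zero_smul, add_zero]
    have hUinv : ∀ y ∈ U, A *ᵥ y ∈ U := fun y hy => OrthTools.mem_orth.2 fun x hx => by
      rw [← hSA]; exact OrthTools.mem_orth.1 hy _ (hinvW hr x hx).1
    have hWU : ∀ x ∈ W, ∀ y ∈ U, polar q x y = 0 := fun x hx y hy => OrthTools.mem_orth.1 hy x hx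
    set k := -polar q w (A *ᵥ w) / (2 * (2 * q w)) with hk
    set v₂ := w + k • v with hv₂
    have hvv₂ : polar q v₂ (A *ᵥ v₂) = 0 := by
      rw [hv₂, mulVec_add, mulVec_smul, ← hw, polar_add_left, polar_add_right, polar_add_right, polar_smul_left,
        polar_smul_left, polar_smul_right, polar_smul_right, hvw, polar_self', hv₁]
      have e : 2 * (2 * q w) * k = -polar q w (A *ᵥ w) := mul_div_cancel₀ _ (mul_ne_zero S.two hb)
      simp only [smul_eq_mul, mul_zero, add_zero]
      linear_combination e
    have hv2v : polar q v₂ w = 2 * q w := by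
      rw [hv₂, polar_add_left, polar_smul_left, polar_self', hv₁, smul_zero, add_zero]
    have hvv2 : polar q v (A *ᵥ v₂) = 2 * q w := by
      rw [hv₂, mulVec_add, mulVec_smul, ← hw, polar_add_right, polar_smul_right, hvw, hv₁, smul_zero, add_zero]
    have hv₂W : v₂ ∈ W := W.add_mem hwW (W.smul_mem _ hvW)
    have hval : ∀ t s : F, polar q (t • v + s • v₂) (A *ᵥ (t • v + s • v₂)) = 2 * t * s * (2 * q w) := fun t s => by
      simp only [mulVec_add, mulVec_smul, ← hw, polar_add_left, polar_add_right, polar_smul_left,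
        polar_smul_right, hv₁, hvv₂, hv2v, hvv2, smul_eq_mul, mul_zero, zero_add, add_zero]
      ring
    -- common relation for a vector of the plane and one of the orthogonal plane
    have hsplit : ∀ x ∈ W, ∀ y ∈ U, x ≠ 0 → polar q x (A *ᵥ x) + polar q y (A *ᵥ y) = 0 →
        ∃ γ' δ', res A γ' δ' x = 0 ∧ res A γ' δ' y = 0 := by
      intro x hxW y hy hx0 hsum
      have hz : polar q (x + y) (A *ᵥ (x + y)) = 0 := by
        rw [mulVec_add, polar_add_left, polar_add_right, polar_add_right, hWU _ hxW _ (hUinv y hy),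
          polar_comm (f := ⇑q) y (A *ᵥ x), hWU _ (hinvW hr _ hxW).1 _ hy]
        linear_combination hsum
      have hz0 : x + y ≠ 0 := fun h0 => hx0 (hdisj _ hxW (by rw [eq_neg_of_add_eq_zero_left h0]; exact U.neg_mem hy))
      obtain ⟨γ', δ', h⟩ := hrel hz0 hz
      rw [res_add] at h
      have h1 : res A γ' δ' x ∈ W :=
        W.sub_mem (W.sub_mem (hinvW hr _ (hinvW hr _ hxW).1).1 (W.smul_mem _ (hinvW hr _ hxW).1)) (W.smul_mem _ hxW)
      have h3 : res A γ' δ' y ∈ U :=
        U.sub_mem (U.sub_mem (hUinv _ (hUinv y hy)) (U.smul_mem _ (hUinv y hy))) (U.smul_mem _ hy)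
      have h4 := hdisj _ h1 (by rw [eq_neg_of_add_eq_zero_left h]; exact U.neg_mem h3)
      exact ⟨γ', δ', h4, by rwa [h4, zero_add] at h⟩
    have hres : ∀ x ∈ W, res A γ δ x = 0 := fun x hx => (hinvW hr x hx).2
    have hroot : ∀ (x : Fin 4 → F) (l γ' δ' : F), x ≠ 0 → A *ᵥ x = l • x → res A γ' δ' x = 0 →
        l * l = γ' * l + δ' := by
      intro x l γ' δ' hx hl h
      simp only [res, hl, mulVec_smul, smul_smul, ← sub_smul, smul_eq_zero, hx, or_false] at h
      linear_combination h
    -- two eigenvectors of the plane off the axes have different eigenvalues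
    have hdistinct : ∀ {t s t' s' : F} {l l' : F}, t * s' - t' * s ≠ 0 → A *ᵥ (t • v + s • v₂) = l • (t • v + s • v₂) →
        A *ᵥ (t' • v + s' • v₂) = l' • (t' • v + s' • v₂) → l ≠ l' := by
      rintro t s t' s' l l' hdet h h' rfl
      apply hne l
      have e : s' • (t • v + s • v₂) - s • (t' • v + s' • v₂) = (t * s' - t' * s) • v := by module
      have h5 : A *ᵥ ((t * s' - t' * s) • v) = l • ((t * s' - t' * s) • v) := by
        rw [← e, mulVec_sub, mulVec_smul, mulVec_smul, h, h', smul_sub, smul_comm l s', smul_comm l s]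
      rw [mulVec_smul, smul_comm] at h5
      exact smul_right_injective _ hdet h5
    -- the vectors of U that are no eigenvectors
    have key : ∀ y ∈ U, (∀ n : F, A *ᵥ y ≠ n • y) → res A γ δ y = 0 := by
      intro y hy hney
      have hy0 : y ≠ 0 := fun h0 => hney 0 (by simp [h0])
      by_cases hy' : polar q y (A *ᵥ y) = 0
      · obtain ⟨γ', δ', h1, h3⟩ := hsplit v hvW y hy hv0 (by rw [hy', ← hw, hv₁, add_zero])
        obtain ⟨rfl, rfl⟩ := rel_unique hv0 hne hr h1
        exact h3
      set c := -polar q y (A *ᵥ y) with hc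
      have hc0 : c ≠ 0 := neg_ne_zero.2 hy'
      let sc : F → F := fun t => c / (2 * t * (2 * q w))
      let X : F → (Fin 4 → F) := fun t => t • v + sc t • v₂
      have hX : ∀ t : F, t ≠ 0 → X t ∈ W ∧ X t ≠ 0 ∧ polar q (X t) (A *ᵥ X t) = c := by
        intro t ht
        have hv' : polar q (X t) (A *ᵥ X t) = c := by
          rw [hval]
          simp only [sc]
          have := S.two
          field_simp
        refine ⟨W.add_mem (W.smul_mem _ hvW) (W.smul_mem _ hv₂W), fun h0 => ?_, hv'⟩
        rw [h0, polar_zero_left] at hv'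
        exact hc0 hv'.symm
      have hrr : ∀ t : F, t ≠ 0 → ∃ γ' δ', res A γ' δ' (X t) = 0 ∧ res A γ' δ' y = 0 := fun t ht =>
        hsplit _ (hX t ht).1 y hy (hX t ht).2.1 (by rw [(hX t ht).2.2, hc, neg_add_cancel])
      have hXrel : ∀ t : F, t ≠ 0 → res A γ δ (X t) = 0 := fun t ht => hres _ (hX t ht).1
      by_cases hne1 : ∀ l : F, A *ᵥ X 1 ≠ l • X 1
      · obtain ⟨γ', δ', h1, h3⟩ := hrr 1 one_ne_zero
        obtain ⟨rfl, rfl⟩ := rel_unique (hX 1 one_ne_zero).2.1 hne1 (hXrel 1 one_ne_zero) h1
        exact h3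
      push Not at hne1
      obtain ⟨l, hl⟩ := hne1
      have hl0 : l ≠ 0 := fun h0 => hinj _ (hX 1 one_ne_zero).2.1 (by rw [hl, h0, zero_smul])
      obtain ⟨γ', δ', h1, h3⟩ := hrr 1 one_ne_zero
      have r1 := hroot _ l γ δ (hX 1 one_ne_zero).2.1 hl (hXrel 1 one_ne_zero)
      have r2 := hroot _ l γ' δ' (hX 1 one_ne_zero).2.1 hl h1
      by_cases hν : ∃ ν : F, ν ≠ 0 ∧ ν * ν ≠ 1
      · obtain ⟨ν, hν0, hν1⟩ := hν
        by_cases hneν : ∀ l : F, A *ᵥ X ν ≠ l • X ν
        · obtain ⟨γ'', δ'', h1', h3'⟩ := hrr ν hν0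
          obtain ⟨rfl, rfl⟩ := rel_unique (hX ν hν0).2.1 hneν (hXrel ν hν0) h1'
          exact h3'
        push Not at hneν
        obtain ⟨l', hl'⟩ := hneν
        have hll : l ≠ l' := by
          refine hdistinct ?_ hl hl'
          have e : 1 * sc ν - ν * sc 1 = c / (2 * ν * (2 * q w)) * (1 - ν * ν) := by
            simp only [sc]
            have := S.two
            field_simp
          rw [e]
          exact mul_ne_zero (div_ne_zero hc0 (mul_ne_zero (mul_ne_zero S.two hν0) hb))
            (sub_ne_zero.2 (Ne.symm hν1))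
        obtain ⟨γ'', δ'', h1', h3'⟩ := hrr ν hν0
        have r1' := hroot _ l' γ δ (hX ν hν0).2.1 hl' (hXrel ν hν0)
        have r2' := hroot _ l' γ'' δ'' (hX ν hν0).2.1 hl' h1'
        obtain ⟨rfl, rfl⟩ := rel_unique hy0 hney h3 h3'
        obtain rfl : γ = γ'' := by
          refine mul_right_cancel₀ (sub_ne_zero.2 hll) ?_
          linear_combination r1' - r1 - r2' + r2
        obtain rfl : δ = δ'' := by linear_combination -r1 + r2
        exact h3
      · -- three scalars
        push Not at hν
        have hsq : ∀ a : F, a ≠ 0 → ∀ b : F, b ≠ 0 → a = b ∨ a = -b := fun a ha b hb =>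
          mul_self_eq_mul_self_iff.1 ((hν a ha).trans (hν b hb).symm)
        have hdouble : ∀ (x : Fin 4 → F) (γ' δ' : F), γ' = 2 * l → δ' = -(l * l) → res A γ' δ' x = 0 →
            A *ᵥ x = l • x := by
          intro x γ' δ' hg hd h
          set z := A *ᵥ x - l • x with hz
          have hAz : A *ᵥ z = l • z := by
            rw [hz, mulVec_sub, mulVec_smul]
            simp only [res, hg, hd] at h
            linear_combination (norm := module) h
          by_contra hne'
          refine hni z l (sub_ne_zero.2 hne') ((mul_eq_zero.1 ?_).resolve_left S.two) hAz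
          rw [← polar_self' (Q := q)]
          conv_lhs => arg 2; rw [hz]
          rw [polar_sub_left, polar_smul_left, hSA, hAz, polar_smul_right, sub_self]
        have hδ : δ ≠ 0 := fun h0 => by
          apply hne γ
          apply gl_mulVec_injective L
          show A *ᵥ (A *ᵥ v) = A *ᵥ (γ • v)
          simp only [res, h0, zero_smul, sub_zero, sub_eq_zero] at hr
          rw [hr, mulVec_smul]
        have hγ : γ = 0 := by
          have hμ : γ - l ≠ 0 := fun h0 => hδ (by linear_combination -r1 - l * h0)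
          rcases hsq _ hμ _ hl0 with h5 | h5
          · exact absurd (hdouble v γ δ (by linear_combination h5) (by linear_combination -r1 - l * h5) hr) (hne l)
          · linear_combination h5
        have hδ1 : δ = 1 := by rw [hγ, zero_mul, zero_add, hν l hl0] at r1; exact r1.symm
        rw [hγ, hδ1]
        have hδ' : δ' ≠ 0 := fun h0 => by
          apply hney γ'
          apply gl_mulVec_injective L
          show A *ᵥ (A *ᵥ y) = A *ᵥ (γ' • y)
          simp only [res, h0, zero_smul, sub_zero, sub_eq_zero] at h3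
          rw [h3, mulVec_smul]
        have hμ' : γ' - l ≠ 0 := fun h0 => hδ' (by linear_combination -r2 - l * h0)
        rcases hsq _ hμ' _ hl0 with h5 | h5
        · exact absurd (hdouble y γ' δ' (by linear_combination h5) (by linear_combination -r2 - l * h5) h3) (hney l)
        · obtain rfl : γ' = 0 := by linear_combination h5
          rw [zero_mul, zero_add, hν l hl0] at r2
          rwa [← r2] at h3
    refine ⟨γ, δ, fun z _ => ?_⟩
    have hWd : Module.finrank F W = 2 := finrank_plane hv0 hne
    have hUd : Module.finrank F U = 2 := by rw [hU, OrthTools.finrank_orth S.nd, hWd, Fintype.card_fin]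
    have hallU : ∀ y ∈ U, res A γ δ y = 0 := by
      by_cases hsc : ∃ n : F, ∀ y ∈ U, A *ᵥ y = n • y
      · -- U is an eigenspace
        obtain ⟨n, hn⟩ := hsc
        intro y hy
        suffices hn2 : n * n - γ * n - δ = 0 by
          simp only [res, hn y hy, mulVec_smul, smul_smul, ← sub_smul]
          rw [hn2, zero_smul]
        have hUn : ∀ x ∈ U, x ≠ 0 → ∃ y ∈ U, polar q x y ≠ 0 := by
          intro x hx hx0
          by_contra! hall
          have hxW : x ∈ W := by
            rw [← OrthSubspace.orth_orth S.nd W, ← hU]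
            refine OrthTools.mem_orth.2 fun t ht => ?_
            rw [polar_comm]
            exact hall t ht
          exact hx0 (hdisj x hxW hx)
        have hn0 : n ≠ 0 := by
          obtain ⟨y₀, hy₀, hy₀0⟩ := Submodule.exists_mem_ne_zero_of_ne_bot (p := U)
            (fun h0 => by rw [h0, finrank_bot] at hUd; omega)
          exact fun h0 => hinj y₀ hy₀0 (by rw [hn y₀ hy₀, h0, zero_smul])
        have hgen : ∀ s : F, s ≠ 0 → (∀ l : F, A *ᵥ (v + s • v₂) ≠ l • (v + s • v₂)) → n * n - γ * n - δ = 0 := by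
          intro s hs hnes
          obtain ⟨y', hy', hqy⟩ := exists_value S.nd S.two hUn (by omega) (-(s * (2 * q w)) / n)
          have hv' := hval 1 s
          rw [one_smul] at hv'
          have hxW : v + s • v₂ ∈ W := W.add_mem hvW (W.smul_mem _ hv₂W)
          have hx0 : v + s • v₂ ≠ 0 := fun h0 => hnes 0 (by simp [h0])
          obtain ⟨γ', δ', h1, h3⟩ := hsplit _ hxW y' hy' hx0 (by
            rw [hv', hn y' hy', polar_smul_right, polar_self', hqy, smul_eq_mul]
            field_simp
            ring)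
          obtain ⟨rfl, rfl⟩ := rel_unique hx0 hnes (hres _ hxW) h1
          have hy'0 : y' ≠ 0 := fun h0 => by
            rw [h0, QuadraticMap.map_zero, eq_comm, div_eq_zero_iff] at hqy
            simp [hs, hb, hn0] at hqy
          linear_combination hroot _ n γ' δ' hy'0 (hn y' hy') h3
        by_cases h1 : ∀ l : F, A *ᵥ (v + (1 : F) • v₂) ≠ l • (v + (1 : F) • v₂)
        · exact hgen 1 one_ne_zero h1
        by_cases h1' : ∀ l : F, A *ᵥ (v + (-1 : F) • v₂) ≠ l • (v + (-1 : F) • v₂)
        · exact hgen (-1) (neg_ne_zero.2 one_ne_zero) h1'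
        push Not at h1 h1'
        obtain ⟨l, hl⟩ := h1
        obtain ⟨l', hl'⟩ := h1'
        have h11 : (1 : F) • v = v := one_smul F v
        rw [← h11] at hl hl'
        have hll : l ≠ l' := hdistinct (fun h0 => S.two (by linear_combination -h0)) hl hl'
        by_cases hν : ∃ ν : F, ν ≠ 0 ∧ ν * ν ≠ 1
        · obtain ⟨ν, hν0, hν1⟩ := hν
          refine hgen ν hν0 fun k hk => ?_
          rw [← h11] at hk
          have e1 : k ≠ l := hdistinct (fun h0 => hν1 (by linear_combination -(1 + ν) * h0)) hk hl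
          have e2 : k ≠ l' := hdistinct (fun h0 => hν1 (by linear_combination (1 - ν) * h0)) hk hl'
          have hx0 : ∀ s : F, s ≠ 0 → (1 : F) • v + s • v₂ ≠ 0 := fun s hs h0 => by
            have h5 := hval 1 s
            rw [h0, polar_zero_left, eq_comm] at h5
            simp [S.two, hs, hb] at h5
          have rl := hroot _ l γ δ (hx0 1 one_ne_zero) hl (hres _ (W.add_mem (W.smul_mem _ hvW) (W.smul_mem _ hv₂W)))
          have rl' := hroot _ l' γ δ (hx0 _ (neg_ne_zero.2 one_ne_zero)) hl'
            (hres _ (W.add_mem (W.smul_mem _ hvW) (W.smul_mem _ hv₂W)))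
          have rk := hroot _ k γ δ (hx0 ν hν0) hk (hres _ (W.add_mem (W.smul_mem _ hvW) (W.smul_mem _ hv₂W)))
          have g1 : k + l = γ := mul_left_cancel₀ (sub_ne_zero.2 e1) (by linear_combination rk - rl)
          have g2 : k + l' = γ := mul_left_cancel₀ (sub_ne_zero.2 e2) (by linear_combination rk - rl')
          exact hll (by linear_combination g1 - g2)
        · push Not at hν
          have hx0 : ∀ s : F, s ≠ 0 → (1 : F) • v + s • v₂ ≠ 0 := fun s hs h0 => by
            have h5 := hval 1 s
            rw [h0, polar_zero_left, eq_comm] at h5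
            simp [S.two, hs, hb] at h5
          have rl := hroot _ l γ δ (hx0 1 one_ne_zero) hl (hres _ (W.add_mem (W.smul_mem _ hvW) (W.smul_mem _ hv₂W)))
          have rl' := hroot _ l' γ δ (hx0 _ (neg_ne_zero.2 one_ne_zero)) hl'
            (hres _ (W.add_mem (W.smul_mem _ hvW) (W.smul_mem _ hv₂W)))
          have hl0 : l ≠ 0 := fun h0 => hinj _ (hx0 1 one_ne_zero) (by rw [hl, h0, zero_smul])
          have hl'0 : l' ≠ 0 := fun h0 => hinj _ (hx0 _ (neg_ne_zero.2 one_ne_zero)) (by rw [hl', h0, zero_smul])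
          rcases mul_self_eq_mul_self_iff.1 ((hν n hn0).trans (hν l hl0).symm) with h5 | h5
          · rw [h5]; linear_combination rl
          · rcases mul_self_eq_mul_self_iff.1 ((hν l' hl'0).trans (hν l hl0).symm) with h6 | h6
            · exact absurd h6.symm hll
            · rw [h5, ← h6]; linear_combination rl'
      · -- U is spanned by a vector and its image
        push Not at hsc
        obtain ⟨y₁, hy₁, hney⟩ : ∃ y ∈ U, ∀ n : F, A *ᵥ y ≠ n • y := by
          by_contra! hall
          obtain ⟨a, ha, ha0⟩ := Submodule.exists_mem_ne_zero_of_ne_bot (p := U)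
            (fun h0 => by rw [h0, finrank_bot] at hUd; omega)
          obtain ⟨n, hn⟩ := hall a ha
          obtain ⟨b, hb, hbn⟩ := hsc n
          obtain ⟨n', hn'⟩ := hall b hb
          obtain ⟨k, hk⟩ := hall (a + b) (U.add_mem ha hb)
          rw [mulVec_add, hn, hn'] at hk
          have hab : ∀ r : F, r • a ≠ b := fun r h0 => hbn (by rw [← h0, mulVec_smul, hn, smul_comm])
          obtain ⟨e1, e2⟩ := LinearIndependent.pair_iff.1 ((LinearIndependent.pair_iff' ha0).2 hab) (n - k) (n' - k)
            (by linear_combination (norm := module) hk)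
          exact hbn (by rw [sub_eq_zero.1 e1, ← sub_eq_zero.1 e2]; exact hn')
        intro y hy
        have hy₁0 : y₁ ≠ 0 := fun h0 => hney 0 (by simp [h0])
        have hle : plane A y₁ ≤ U := Submodule.span_le.2 fun x hx => by
          rcases hx with rfl | rfl
          · exact hy₁
          · exact hUinv _ hy₁
        have e := Submodule.eq_of_le_of_finrank_le hle (by rw [hUd, finrank_plane hy₁0 hney])
        exact (hinvW (key y₁ hy₁ hney) y (e ▸ hy)).2
    set a := polar q z v / (2 * q v)
    set b := polar q z w / (2 * q w)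
    set x := a • v + b • w with hx
    have hxW : x ∈ W := W.add_mem (W.smul_mem _ hvW) (W.smul_mem _ hwW)
    have hzx : z - x ∈ U := OrthTools.mem_orth.2 fun t ht => by
      obtain ⟨r, s, rfl⟩ := Submodule.mem_span_pair.1 ht
      simp only [hx, ← hw, polar_add_left, polar_smul_left, polar_sub_right, polar_add_right, polar_smul_right,
        polar_self', hv₁, polar_comm (f := ⇑q) w v, smul_eq_mul, mul_zero, add_zero, zero_add, a, b,
        polar_comm (f := ⇑q) v z, polar_comm (f := ⇑q) w z]
      have := S.two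
      field_simp
      ring
    have : z = x + (z - x) := by abel
    rw [this, res_add, (hinvW hr x hxW).2, hallU _ hzx, add_zero]

end CfsgLib.GeomClasses.OrthFour
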