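import Cfsg.Agent.Lib.GeomClasses.OrthFour.Basic
import Cfsg.Agent.Lib.GeomClasses.OrthSimilarity

/-!
One transvection with singular centre and the orthogonal hyperplane as axis, together with the similitudes
of determinant one, gives the special linear group.
-/

set_option autoImplicit false
set_option linter.unusedSectionVars false

namespace CfsgLib.GeomClasses.OrthFour

open Matrix QuadraticMap CfsgLib.Orth CfsgLib.GeomClasses.OrthSimilarity

variable {F : Type*} [Field F] [Fintype F] {q : QuadraticForm F (Fin 4 → F)} {M : Subgroup (GL (Fin 4) F)}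

/-- Inside a non-degenerate subspace the orthogonal of an anisotropic vector is non-degenerate. -/
theorem inf_orth_nondegenerate (h2 : (2 : F) ≠ 0) {X : Submodule F (Fin 4 → F)}
    (hX : ∀ x ∈ X, x ≠ 0 → ∃ y ∈ X, polar q x y ≠ 0) {c : Fin 4 → F} (hc : c ∈ X) (hqc : q c ≠ 0) :
    ∀ x ∈ X ⊓ OrthTools.orth q (Submodule.span F {c}), x ≠ 0 →
      ∃ y ∈ X ⊓ OrthTools.orth q (Submodule.span F {c}), polar q x y ≠ 0 := by
  intro x hx hx0
  obtain ⟨hxX, hcx⟩ := OrthTools.mem_inf_orth hx
  obtain ⟨y, hy, hxy⟩ := hX x hxX hx0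
  refine ⟨y - (polar q c y / (2 * q c)) • c, ⟨X.sub_mem hy (X.smul_mem _ hc), OrthTools.mem_orth.2 fun z hz => ?_⟩, ?_⟩
  · obtain ⟨t, rfl⟩ := Submodule.mem_span_singleton.1 hz
    rw [polar_smul_left, polar_sub_right, polar_smul_right, polar_self', smul_eq_mul, smul_eq_mul,
      div_mul_cancel₀ _ (mul_ne_zero h2 hqc), sub_self, mul_zero]
  · rwa [polar_sub_right, polar_smul_right, polar_comm (f := ⇑q) x c, hcx, smul_zero, sub_zero]

/-- A non-degenerate subspace of dimension at least two takes every value. -/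
theorem exists_value (hq : q.polarBilin.Nondegenerate) (h2 : (2 : F) ≠ 0) {X : Submodule F (Fin 4 → F)}
    (hX : ∀ x ∈ X, x ≠ 0 → ∃ y ∈ X, polar q x y ≠ 0) (hd : 2 ≤ Module.finrank F X) (k : F) :
    ∃ x ∈ X, q x = k := by
  obtain ⟨a, ha, hqa⟩ := exists_aniso_mem hq hX (fun h0 => by rw [h0, finrank_bot] at hd; omega)
  obtain ⟨b, hb, hqb⟩ := exists_aniso_mem hq (inf_orth_nondegenerate h2 hX ha hqa) (fun h0 => by
    have h1 := OrthTools.finrank_inf_orth hq X a
    rw [h0, finrank_bot] at h1; omega)
  obtain ⟨hbX, hab⟩ := OrthTools.mem_inf_orth hb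
  obtain ⟨x, y, hxy⟩ := CfsgLib.Orth.exists_binary h2 hqa hqb k
  refine ⟨x • a + y • b, X.add_mem (X.smul_mem _ ha) (X.smul_mem _ hbX), ?_⟩
  rw [QuadraticMap.map_add ⇑q, QuadraticMap.map_smul, QuadraticMap.map_smul, polar_smul_left, polar_smul_right, hab]
  simp only [smul_eq_mul, mul_zero, add_zero]
  linear_combination hxy

theorem Setting.conj_tv_mem (S : Setting q M) {e : O q} (he : detHom q e = 1) {z p : Fin 4 → F}
    (hzp : polar q z p = 0) (h : tv z (dual q p) ∈ M) : tv (app e z) (dual q (app e p)) ∈ M := by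
  have h1 := M.mul_mem (M.mul_mem (S.isometry_mem he) h) (M.inv_mem (S.isometry_mem he))
  rwa [conj_tv _ (by rw [dual_dot, hzp]), dual_vecMul] at h1

/-- All root elements at all singular points. -/
theorem Setting.root_all (S : Setting q M) {u : Fin 4 → F} (hu0 : u ≠ 0) (hu : q u = 0) {r : F} (hr : r ≠ 0)
    (h : tv (r • u) (dual q u) ∈ M) {v : Fin 4 → F} (hv : q v = 0) (c : F) : tv (c • v) (dual q v) ∈ M := by
  have hs : ∀ (w : Fin 4 → F) (k : F), q w = 0 → polar q (k • w) w = 0 := fun w k hw => by
    rw [polar_smul_left, polar_self', hw, mul_zero, smul_zero]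
  have hd : ∀ (w : Fin 4 → F) (k : F), dual q (k • w) = k • dual q w := fun w k => map_smul (dual q) k w
  obtain ⟨t, ht, hut⟩ := exists_partner_top S.nd hu0 hu
  have htu : polar q t u = 1 := by rw [polar_comm, hut]
  have hsq : ∀ a : F, tv ((r * (a * a)) • u) (dual q u) ∈ M := by
    intro a
    rcases eq_or_ne a 0 with rfl | ha
    · rw [mul_zero, mul_zero, zero_smul, tv_zero_left]; exact M.one_mem
    have hq1 : ∀ b : F, q (u - b • t) = -b := fun b => by
      rw [sub_eq_add_neg, ← neg_smul, QuadraticMap.map_add ⇑q, QuadraticMap.map_smul, polar_smul_right, hu, ht, hut]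
      simp
    have hne : ∀ b : F, b ≠ 0 → q (u - b • t) ≠ 0 := fun b hb => by rw [hq1]; exact neg_ne_zero.2 hb
    have hm : app (refl q (u - (1 : F) • t) * refl q (u - a • t)) u = a • u := by
      rw [app_mul, app_refl (u - a • t), hq1, polar_sub_right, polar_self', hu, polar_smul_right, hut,
        show u - ((-a)⁻¹ * (2 * 0 - a • 1)) • (u - a • t) = a • t by match_scalars <;> field_simp <;> simp,
        map_smul, app_refl, hq1, polar_sub_right, polar_smul_right, polar_self', ht, htu]
      match_scalars <;> norm_num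
    have h1 := S.conj_tv_mem (detHom_refl_pair S.two (hne 1 one_ne_zero) (hne a ha)) (hs u r hu) h
    rwa [map_smul, hm, hd, ← tv_smul_comm (by rw [dual_dot, smul_smul, hs u _ hu]), smul_smul, smul_smul,
      show a * r * a = r * (a * a) by ring] at h1
  have hall : ∀ k : F, tv (k • u) (dual q u) ∈ M := by
    intro k
    obtain ⟨x, y, hxy⟩ := CfsgLib.Orth.exists_binary S.two hr hr k
    have := M.mul_mem (hsq x) (hsq y)
    rwa [tv_mul_tv_left (by rw [dual_dot, hs u _ hu]) (by rw [dual_dot, hs u _ hu]), ← add_smul,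
      show r * (x * x) + r * (y * y) = k by linear_combination hxy] at this
  rcases eq_or_ne v 0 with rfl | hv0
  · rw [smul_zero, tv_zero_left]; exact M.one_mem
  obtain ⟨e, he, k, hk, hm⟩ := exists_map_singular S.nd hu0 hu hv0 hv
  have h1 := S.conj_tv_mem he (hs u (c / (k * k)) hu) (hall _)
  rwa [map_smul, hm, hd, ← tv_smul_comm (by rw [dual_dot, smul_smul, hs v _ hv]), smul_smul, smul_smul,
    show k * (c / (k * k)) * k = c by field_simp] at h1

/-- There is no transvection with singular centre and orthogonal axis. -/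
theorem Setting.no_root (S : Setting q M) {u : Fin 4 → F} (hu0 : u ≠ 0) (hu : q u = 0) {r : F} (hr : r ≠ 0)
    (h : tv (r • u) (dual q u) ∈ M) : False := by
  apply S.proper
  have hroot := fun (v : Fin 4 → F) (hv : q v = 0) (c : F) => S.root_all hu0 hu hr h hv c
  obtain ⟨v, hv, huv⟩ := exists_partner_top S.nd hu0 hu
  have hvu : polar q v u = 1 := by rw [polar_comm, huv]
  have huu : polar q u u = 0 := by rw [polar_self', hu, mul_zero]
  have hvv : polar q v v = 0 := by rw [polar_self', hv, mul_zero]
  set p := v + u with hp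
  set s := v - u with hs
  have hps : polar q p s = 0 := by
    simp [hp, hs, polar_add_left, polar_sub_right, huu, hvv, huv, hvu]
  -- a transvection with anisotropic centre and pole
  have hbase : ∀ t : F, tv (t • p) (dual q s) ∈ M := by
    intro t
    have hK := hroot u hu 1
    rw [one_smul] at hK
    have h1 := M.mul_mem (M.mul_mem hK (hroot v hv t)) (M.inv_mem hK)
    have hK0 : dual q u ⬝ᵥ u = 0 := by rw [dual_dot, huu]
    rw [conj_tv _ (by rw [dual_dot, polar_smul_left, hvv, smul_zero]), mulVec_smul, tv_mulVec hK0, dual_dot,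
      hvu, one_smul, tv_inv hK0,
      show dual q v ᵥ* (tv (-u) (dual q u) : Matrix (Fin 4) (Fin 4) F) = dual q s from ?_] at h1
    · exact h1
    · refine CfsgLib.GeomClasses.dot_right_cancel fun x => ?_
      rw [← dotProduct_mulVec, tv_mulVec (by rw [dotProduct_neg, hK0, neg_zero]), dual_dot, dual_dot, dual_dot, hs]
      simp [polar_add_left, polar_smul_left, polar_sub_right, huv]
      ring
  let T : Submodule F (Fin 4 → F) :=
    { carrier := {z | polar q z s = 0 ∧ ∀ t : F, tv (t • z) (dual q s) ∈ M}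
      zero_mem' := ⟨polar_zero_left q s, fun t => by rw [smul_zero, tv_zero_left]; exact M.one_mem⟩
      add_mem' := fun {a b} ha hb => ⟨by rw [polar_add_left, ha.1, hb.1, add_zero], fun t => by
        rw [smul_add, ← tv_mul_tv_left (by rw [dual_dot, polar_smul_left, ha.1, smul_zero])
          (by rw [dual_dot, polar_smul_left, hb.1, smul_zero])]
        exact M.mul_mem (ha.2 t) (hb.2 t)⟩
      smul_mem' := fun k a ha => ⟨by rw [polar_smul_left, ha.1, smul_zero], fun t => by
        rw [smul_smul]; exact ha.2 _⟩ }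
  have hpT : p ∈ T := ⟨hps, hbase⟩
  have hinv : ∀ w b, q w = 0 → polar q w b = 0 → polar q s w = 0 → polar q s b = 0 →
      ∀ z ∈ T, app (eich q w b) z ∈ T := by
    intro w b hw hwb hsw hsb z hz
    have hfix : app (eich q w b) s = s := by rw [app_eich hw hwb, hsw, hsb]; simp
    refine ⟨?_, fun t => ?_⟩
    · conv_lhs => rw [← hfix]
      rw [polar_app, hz.1]
    · have := S.conj_tv_mem (detHom_eich S.nd S.two hw hwb) (by rw [polar_smul_left, hz.1, smul_zero]) (hz.2 t)
      rwa [map_smul, hfix] at this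
  obtain ⟨hY, hYn⟩ := perp_plane S.nd hu hv huv
  obtain ⟨x, hx, hqx⟩ := exists_value S.nd S.two hYn (by omega) (-1 : F)
  obtain ⟨c, hcX, hqc⟩ := exists_aniso_mem S.nd (inf_orth_nondegenerate S.two hYn hx (by rw [hqx]; simp))
    (fun h0 => by
      have h1 := OrthTools.finrank_inf_orth S.nd
        (OrthTools.orth q (Submodule.span F ({u, v} : Set (Fin 4 → F)))) x
      rw [h0, finrank_bot] at h1; omega)
  obtain ⟨hc, hxc⟩ := OrthTools.mem_inf_orth hcX
  rw [OrthEich.mem_orth_pair] at hx hc
  set w := p + x with hw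
  have hqp : q p = 1 := by rw [hp, QuadraticMap.map_add ⇑q, hu, hv, hvu]; ring
  have hpx : polar q p x = 0 := by rw [hp, polar_add_left, hx.1, hx.2, add_zero]
  have hpc : polar q p c = 0 := by rw [hp, polar_add_left, hc.1, hc.2, add_zero]
  have hsx : polar q s x = 0 := by rw [hs, polar_sub_left, hx.1, hx.2, sub_zero]
  have hsc : polar q s c = 0 := by rw [hs, polar_sub_left, hc.1, hc.2, sub_zero]
  have hqw : q w = 0 := by rw [hw, QuadraticMap.map_add ⇑q, hqp, hqx, hpx]; ring
  have hsw : polar q s w = 0 := by rw [hw, polar_add_right, polar_comm, hps, hsx, add_zero]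
  have hpw : polar q p w = 2 := by rw [hw, polar_add_right, polar_self', hqp, hpx]; ring
  have hD : ∀ b, polar q w b = 0 → polar q s b = 0 →
      (2 : F) • b + (-(polar q p b) - q b * 2) • w ∈ T := by
    intro b hwb hsb
    have := T.sub_mem (hinv w b hqw hwb hsw hsb p hpT) hpT
    rwa [app_eich hqw hwb, hpw, add_assoc, add_sub_cancel_left] at this
  have hwc : polar q w c = 0 := by rw [hw, polar_add_left, hpc, hxc, add_zero]
  have hwT : w ∈ T := by
    refine (Submodule.smul_mem_iff T (mul_ne_zero (mul_ne_zero S.two S.two) hqc)).1 ?_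
    have := T.neg_mem (T.add_mem (hD c hwc hsc) (hD (-c) (by rw [polar_neg_right, hwc, neg_zero])
      (by rw [polar_neg_right, hsc, neg_zero])))
    convert this using 1
    rw [polar_neg_right, QuadraticMap.map_neg, hpc]
    module
  have hT : ∀ z, polar q z s = 0 → z ∈ T := by
    intro z hz
    set b := z - (polar q z w / 2) • p with hb
    have hbs : polar q s b = 0 := by
      rw [hb, polar_sub_right, polar_smul_right, polar_comm (f := ⇑q) s p, hps, polar_comm, hz, smul_zero, sub_zero]
    have hbw : polar q w b = 0 := by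
      rw [hb, polar_sub_right, polar_smul_right, polar_comm (f := ⇑q) w p, hpw, polar_comm, smul_eq_mul,
        div_mul_cancel₀ _ S.two, sub_self]
    have hbT : b ∈ T := by
      refine (Submodule.smul_mem_iff T S.two).1 ?_
      have := T.sub_mem (hD b hbw hbs) (T.smul_mem (-(polar q p b) - q b * 2) hwT)
      rwa [add_sub_cancel_right] at this
    have := T.add_mem hbT (T.smul_mem (polar q z w / 2) hpT)
    rwa [hb, sub_add_cancel] at this
  have hsA : dual q s ∈ fullAxes M := mem_fullAxes.2 fun z hz => by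
    rw [dual_dot] at hz
    simpa using (hT z hz).2 1
  have hs0 : s ≠ 0 := fun h0 => by
    have := congrArg (fun z => polar q u z) h0
    simp [hs, polar_sub_right, huv, huu] at this
  have hX : ∀ x ∈ (⊤ : Submodule F (Fin 4 → F)), x ≠ 0 → ∃ y ∈ (⊤ : Submodule F (Fin 4 → F)), polar q x y ≠ 0 :=
    fun x _ hx => by
      obtain ⟨a, ha⟩ := exists_polar_eq_one S.nd hx
      exact ⟨a, Submodule.mem_top, by rw [ha]; exact one_ne_zero⟩
  obtain ⟨y, hy⟩ := exists_polar_eq_one S.nd hs0
  have htop := OrthEich.absorb (S := (fullAxes M).comap (dual q)) S.nd hX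
    (by rw [finrank_top, Module.finrank_fintype_fun_eq_card, Fintype.card_fin]; norm_num)
    (fun w _ a _ hw hwa z hz => by
      have := fullAxes_invariant (S.isometry_mem (detHom_eich S.nd S.two hw hwa)) (show dual q z ∈ fullAxes M from hz)
      rwa [dual_vecMul] at this)
    (show s ∈ (fullAxes M).comap (dual q) from hsA) (y := y) Submodule.mem_top (by rw [hy]; exact one_ne_zero)
  refine specialLinear_le_of_fullAxes_eq_top (eq_top_iff.2 fun φ _ => ?_)
  obtain ⟨z, rfl⟩ : ∃ z, dual q z = φ := by
    refine LinearMap.surjective_of_injective (f := dual q) ?_ φ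
    intro a b hab
    exact eq_of_polar S.nd fun x => by rw [← dual_dot, ← dual_dot, hab]
  exact htop Submodule.mem_top

end CfsgLib.GeomClasses.OrthFour
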